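import Cfsg.Agent.Lib.Char.ConstDegreeMinusValue.Small
import Cfsg.Agent.Lib.Invol.AltEightSubgroups
import Cfsg.Agent.Lib.Classical.ProjLine

/-!
# Constant degree minus value: the common kernel of the threes
-/

set_option autoImplicit false
set_option linter.unusedSectionVars false
set_option linter.style.haveILetI false

namespace CfsgLib.Char.ConstDegree

open scoped ComplexConjugate
open Representation Module Cfsg

universe u v

variable {G : Type u} [Group G] [Finite G] {u : G}

theorem irr_descend {H : Type v} [Group H] {V : Type*} [AddCommGroup V] [Module ℂ V]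
    (f : G →* H) (hf : Function.Surjective f) (σ : Representation ℂ H V)
    (h : Representation.IsIrreducible (σ.comp f)) : σ.IsIrreducible := by
  haveI := h
  let e : Subrepresentation σ ≃o Subrepresentation (σ.comp f) :=
    { toFun := fun S => ⟨S.toSubmodule, fun x v hv => S.apply_mem_toSubmodule (f x) hv⟩
      invFun := fun S => ⟨S.toSubmodule, fun g v hv => by
        obtain ⟨x, rfl⟩ := hf g
        exact S.apply_mem_toSubmodule x hv⟩
      left_inv := fun S => rfl
      right_inv := fun S => rfl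
      map_rel_iff' := Iff.rfl }
  exact e.isSimpleOrder

/-- A group of order sixty from the involution case is `PSL₂(5)`. -/
theorem psl_of_sixty {H : Type v} [Group H] [Finite H] (hp : commutator H = ⊤)
    (h60 : Nat.card H = 60) :
    Nonempty (H ≃* Matrix.ProjectiveSpecialLinearGroup (Fin 2) (ZMod 5)) ∧ IsSimpleGroup H := by
  haveI : Fact (Nat.Prime 5) := ⟨by norm_num⟩
  haveI : Nontrivial H := Finite.one_lt_card_iff_nontrivial.1 (by omega)
  have hns : ¬ Group.IsSolvable H := fun hs =>
    absurd hp (Group.IsSolvable.commutator_lt_top_of_nontrivial H).ne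
  obtain ⟨α⟩ := CfsgLib.Invol.AltEightSubgroups.alt_five_of_card_sixty hns h60
  haveI : IsSimpleGroup (Matrix.ProjectiveSpecialLinearGroup (Fin 2) (ZMod 5)) :=
    Matrix.ProjectiveSpecialLinearGroup.rank_two_simple (by
      rw [Nat.card_eq_fintype_card, ZMod.card]; norm_num)
  have h60' : Nat.card (Matrix.ProjectiveSpecialLinearGroup (Fin 2) (ZMod 5)) = 60 := by
    have h5 := CfsgLib.Classical.card_psl2 (F := ZMod 5)
    rw [ZMod.card] at h5
    rw [show Nat.gcd 2 (5 - 1) = 2 from rfl] at h5
    omega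
  have hns' : ¬ Group.IsSolvable (Matrix.ProjectiveSpecialLinearGroup (Fin 2) (ZMod 5)) := fun hs => by
    haveI : Nontrivial (Matrix.ProjectiveSpecialLinearGroup (Fin 2) (ZMod 5)) :=
      Finite.one_lt_card_iff_nontrivial.1 (by omega)
    rcases IsSimpleGroup.eq_bot_or_eq_top_of_normal
      (commutator (Matrix.ProjectiveSpecialLinearGroup (Fin 2) (ZMod 5))) inferInstance with e | e
    · have hcomm : ∀ a b : Matrix.ProjectiveSpecialLinearGroup (Fin 2) (ZMod 5), a * b = b * a := by
        intro a b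
        have h := Subgroup.commutator_mem_commutator (Subgroup.mem_top a) (Subgroup.mem_top b)
        rw [← commutator_def, e, Subgroup.mem_bot, commutatorElement_eq_one_iff_mul_comm] at h
        exact h
      letI : CommGroup (Matrix.ProjectiveSpecialLinearGroup (Fin 2) (ZMod 5)) :=
        { (inferInstance : Group (Matrix.ProjectiveSpecialLinearGroup (Fin 2) (ZMod 5))) with
          mul_comm := hcomm }
      haveI : IsSimpleGroup (Matrix.ProjectiveSpecialLinearGroup (Fin 2) (ZMod 5)) := inferInstance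
      have := (IsSimpleGroup.prime_card (α := Matrix.ProjectiveSpecialLinearGroup (Fin 2) (ZMod 5)))
      rw [h60'] at this
      norm_num at this
    · exact absurd e (Group.IsSolvable.commutator_lt_top_of_nontrivial _).ne
  obtain ⟨β⟩ := CfsgLib.Invol.AltEightSubgroups.alt_five_of_card_sixty hns' h60'
  exact ⟨⟨α.trans β.symm⟩, MulEquiv.isSimpleGroup (α.trans β.symm)⟩

/-- The kernel of a three gives the involution case. -/
theorem quotient_ker (hyp : FourHyp G u) {n : ℕ} (ρ : Representation ℂ G (Fin n → ℂ))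
    (h1 : ρ.character 1 = 3) (hu : ρ.character u = -1) :
    Nat.card (G ⧸ MonoidHom.ker ρ) = 60 ∧
      QuotientGroup.mk' (MonoidHom.ker ρ) u ≠ 1 ∧
      QuotientGroup.mk' (MonoidHom.ker ρ) u * QuotientGroup.mk' (MonoidHom.ker ρ) u = 1 := by
  have hyp' := hyp.map (QuotientGroup.mk' (MonoidHom.ker ρ)) (QuotientGroup.mk'_surjective _)
  have hne : QuotientGroup.mk' (MonoidHom.ker ρ) u ≠ 1 := by
    intro e
    have e' : ρ u = 1 := (QuotientGroup.eq_one_iff u).1 e
    rw [Representation.character, e', LinearMap.trace_one] at hu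
    have := congrArg Complex.re hu
    simp at this
    linarith [(Nat.cast_nonneg n : (0 : ℝ) ≤ n)]
  have hsq : QuotientGroup.mk' (MonoidHom.ker ρ) u * QuotientGroup.mk' (MonoidHom.ker ρ) u = 1 := by
    rw [← map_mul, ← pow_two]
    exact (QuotientGroup.eq_one_iff _).2 (three_sq hyp ρ h1 hu)
  exact ⟨(small hyp' hne hsq).1, hne, hsq⟩

/-- The common kernel of the threes. -/
theorem exists_kernel (hyp : FourHyp G u) (hu : u ≠ 1) :
    ∃ K : Subgroup G, ∃ _ : K.Normal, Nat.card (G ⧸ K) = 60 ∧ u ∉ K ∧ u * u ∈ K ∧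
      ∀ χ : IrrCharacter G, IsThree u χ → ∀ k ∈ K, (χ : G → ℂ) k = 3 := by
  classical
  obtain ⟨χ, hχ⟩ := exists_three hyp hu
  obtain ⟨χ', n, ρ, hρ, rfl⟩ := χ
  obtain ⟨h60, hne, hsq⟩ := quotient_ker hyp ρ hχ.1 hχ.2
  refine ⟨MonoidHom.ker ρ, inferInstance, h60, fun h => hne ((QuotientGroup.eq_one_iff u).2 h),
    (QuotientGroup.eq_one_iff _).1 (by simpa using hsq), ?_⟩
  rintro ⟨τ', m, σ, hσ, rfl⟩ hτ k hk
  obtain ⟨h60', -, -⟩ := quotient_ker hyp σ hτ.1 hτ.2
  have hle : MonoidHom.ker σ = MonoidHom.ker ρ ∨ MonoidHom.ker σ ⊔ MonoidHom.ker ρ = ⊤ := by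
    haveI := (psl_of_sixty (commutator_eq_top (hyp.map (QuotientGroup.mk' (MonoidHom.ker ρ))
      (QuotientGroup.mk'_surjective _))) h60).2
    have hN : ((MonoidHom.ker σ).map (QuotientGroup.mk' (MonoidHom.ker ρ))).Normal :=
      Subgroup.Normal.map inferInstance _ (QuotientGroup.mk'_surjective _)
    rcases IsSimpleGroup.eq_bot_or_eq_top_of_normal _ hN with e | e
    · left
      rw [Subgroup.map_eq_bot_iff, QuotientGroup.ker_mk'] at e
      refine Subgroup.eq_of_le_of_card_ge e ?_
      have a := (MonoidHom.ker ρ).card_mul_index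
      have b := (MonoidHom.ker σ).card_mul_index
      rw [Subgroup.index_eq_card, h60] at a
      rw [Subgroup.index_eq_card, h60'] at b
      omega
    · right
      have e' := congrArg (Subgroup.comap (QuotientGroup.mk' (MonoidHom.ker ρ))) e
      rwa [Subgroup.comap_map_eq, QuotientGroup.ker_mk', Subgroup.comap_top] at e'
  rcases hle with e | htop
  · have hk' : σ k = 1 := MonoidHom.mem_ker.1 (e.symm ▸ hk)
    show σ.character k = 3
    rw [Representation.character, hk', LinearMap.trace_one]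
    exact (Representation.char_one σ).symm.trans hτ.1
  exfalso
  let ρ' : Representation ℂ (G ⧸ MonoidHom.ker ρ) (Fin n → ℂ) :=
    QuotientGroup.lift (MonoidHom.ker ρ) ρ le_rfl
  let σ' : Representation ℂ (G ⧸ MonoidHom.ker σ) (Fin m → ℂ) :=
    QuotientGroup.lift (MonoidHom.ker σ) σ le_rfl
  have hρ' : ρ'.IsIrreducible := irr_descend (QuotientGroup.mk' _) (QuotientGroup.mk'_surjective _)
    ρ' (by exact hρ)
  have hσ' : σ'.IsIrreducible := irr_descend (QuotientGroup.mk' _) (QuotientGroup.mk'_surjective _)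
    σ' (by exact hσ)
  haveI := hρ'
  haveI := hσ'
  have hprod := isIrrCharacter_prod (⟨ρ'.character, n, ρ', hρ', rfl⟩ : IrrCharacter _)
    (⟨σ'.character, m, σ', hσ', rfl⟩ : IrrCharacter _)
  let F : G →* (G ⧸ MonoidHom.ker ρ) × (G ⧸ MonoidHom.ker σ) :=
    (QuotientGroup.mk' _).prod (QuotientGroup.mk' _)
  have hF : Function.Surjective F := by
    rintro ⟨a, b⟩
    obtain ⟨x, rfl⟩ := QuotientGroup.mk'_surjective _ a
    obtain ⟨y, rfl⟩ := QuotientGroup.mk'_surjective _ b
    obtain ⟨k', hk', l, hl, hkl⟩ :=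
      Subgroup.mem_sup_of_normal_left.1 ((sup_comm (MonoidHom.ker σ) (MonoidHom.ker ρ)).symm.trans htop ▸
        Subgroup.mem_top (x⁻¹ * y) : x⁻¹ * y ∈ MonoidHom.ker ρ ⊔ MonoidHom.ker σ)
    refine ⟨x * k', Prod.ext ?_ ?_⟩
    · exact QuotientGroup.eq.2 (by rw [mul_inv_rev, inv_mul_cancel_right]; exact Subgroup.inv_mem _ hk')
    · exact QuotientGroup.eq.2 (by
        rw [show (x * k')⁻¹ * y = k'⁻¹ * (x⁻¹ * y) by group, ← hkl, inv_mul_cancel_left]; exact hl)
  have hψ := isIrrCharacter_comp_surjective hprod F hF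
  let ψ : IrrCharacter G := ⟨fun g => ρ.character g * σ.character g, hψ⟩
  have h9 : (ψ : G → ℂ) 1 = 9 := by
    show ρ.character 1 * σ.character 1 = 9
    rw [show ρ.character 1 = 3 from hχ.1, show σ.character 1 = 3 from hτ.1]; norm_num
  have h1 : (ψ : G → ℂ) u = 1 := by
    show ρ.character u * σ.character u = 1
    rw [show ρ.character u = -1 from hχ.2, show σ.character u = -1 from hτ.2]; norm_num
  have hne' : (ψ : G → ℂ) ≠ fun _ => (1 : ℂ) := fun e => by rw [e] at h9; norm_num at h9
  rcases degree_cases hyp hu hne' (by rw [h1]; norm_num) with ⟨e, -⟩ | ⟨e, -⟩ | ⟨e, -⟩ <;>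
    rw [h9] at e <;> norm_num at e

/-- The class of `u` is closed under multiplication by the common kernel. -/
theorem isConj_mul_kernel (hyp : FourHyp G u) (hu : u ≠ 1) {k : G}
    (hk : ∀ χ : IrrCharacter G, IsThree u χ → (χ : G → ℂ) k = 3) : IsConj u (u * k) := by
  classical
  haveI := Fintype.ofFinite (IrrCharacter G)
  by_contra hno
  have h := sum_irr_mul_conj (G := G) u (u * k)
  have h' := sum_irr_mul_conj (G := G) u u
  rw [if_neg hno] at h
  rw [if_pos (IsConj.refl u)] at h'
  have hkey : ∀ χ : IrrCharacter G, (χ : G → ℂ) u * conj ((χ : G → ℂ) (u * k)) =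
      (χ : G → ℂ) u * conj ((χ : G → ℂ) u) := by
    intro χ
    by_cases h0 : (χ : G → ℂ) u = 0
    · rw [h0, zero_mul, zero_mul]
    have hd := trivial_of_threes hyp hu hk h0
    obtain ⟨χ', n, ρ, hρ, rfl⟩ := χ
    dsimp only at hd ⊢
    rw [Representation.char_one] at hd
    have hρk : ρ k = LinearMap.id := (char_eq_degree_iff ρ k).1 hd
    have he : ρ.character (u * k) = ρ.character u := by
      show LinearMap.trace ℂ _ (ρ (u * k)) = LinearMap.trace ℂ _ (ρ u)
      rw [map_mul, hρk]
      rfl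
    rw [he]
  rw [Finset.sum_congr rfl fun χ _ => hkey χ, h'] at h
  exact (Nat.card_pos (α := Subgroup.centralizer ({u} : Set G))).ne' (by exact_mod_cast h)

end CfsgLib.Char.ConstDegree
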