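import Cfsg.Agent.Lib.Char.ConstDegreeMinusValue.Basic

/-!
# Constant degree minus value: degrees three, five and six
-/

set_option autoImplicit false
set_option linter.unusedSectionVars false

namespace CfsgLib.Char.ConstDegree

open scoped ComplexConjugate
open Representation Module Cfsg

universe u v

variable {G : Type u} [Group G] [Finite G] {u : G}

theorem classInner_list [Fintype G] (l : List (IrrCharacter G)) (θ : IrrCharacter G)
    [DecidableEq (IrrCharacter G)] :
    classInner ((l.map (fun ψ : IrrCharacter G => (ψ : G → ℂ))).sum) (θ : G → ℂ) = (l.count θ : ℂ) := by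
  induction l with
  | nil => simp [classInner_zero_left]
  | cons a l ih =>
    rw [List.map_cons, List.sum_cons, classInner_add_left, ih, classInner_irr, List.count_cons]
    by_cases h : a = θ
    · subst h; simp [add_comm]
    · rw [if_neg h, if_neg (fun e => h (beq_iff_eq.1 e))]; simp

theorem list_sum_apply (l : List (IrrCharacter G)) (g : G) :
    ((l.map (fun ψ : IrrCharacter G => (ψ : G → ℂ))).sum) g = (l.map (fun ψ : IrrCharacter G => (ψ : G → ℂ) g)).sum := by
  induction l with
  | nil => rfl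
  | cons a l ih => rw [List.map_cons, List.sum_cons, Pi.add_apply, ih, List.map_cons, List.sum_cons]

theorem exists_list {χ : G → ℂ} (h : IsCharacter G χ) :
    ∃ l : List (IrrCharacter G), χ = (l.map (fun ψ : IrrCharacter G => (ψ : G → ℂ))).sum := by
  obtain ⟨l, hl⟩ := exists_list_irr h
  exact ⟨l, by simpa [List.map_flatMap, ← List.map_eq_flatMap] using hl⟩

theorem re_le_degree (χ : IrrCharacter G) (g : G) :
    ((χ : G → ℂ) g).re ≤ ((χ : G → ℂ) 1).re := by
  obtain ⟨χ', n, ρ, hρ, rfl⟩ := χ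
  dsimp only
  rw [Representation.char_one, Complex.natCast_re]
  exact (Complex.re_le_norm _).trans (norm_char_le ρ g)

theorem eq_degree_of_re (χ : IrrCharacter G) (g : G)
    (h : ((χ : G → ℂ) g).re = ((χ : G → ℂ) 1).re) :
    (χ : G → ℂ) g = (χ : G → ℂ) 1 := by
  obtain ⟨χ', n, ρ, hρ, rfl⟩ := χ
  dsimp only at h ⊢
  rw [Representation.char_one, Complex.natCast_re] at h
  rw [Representation.char_one]
  have h1 := norm_char_le ρ g
  have h2 := Complex.re_le_norm (ρ.character g)
  have h3 : ‖ρ.character g‖ = (finrank ℂ (Fin n → ℂ) : ℝ) := by linarith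
  have h4 : (ρ.character g).im = 0 := by
    have := Complex.sq_norm (ρ.character g)
    rw [h3, Complex.normSq_apply, h] at this
    exact mul_self_eq_zero.1 (by nlinarith [this])
  exact Complex.ext (by simp [h]) (by simp [h4])

/-- The value of a character at `u`, in terms of a natural degree. -/
theorem val_of_ne_zero (hyp : FourHyp G u) {χ : IrrCharacter G}
    (hne : (χ : G → ℂ) ≠ fun _ => (1 : ℂ)) (h0 : (χ : G → ℂ) u ≠ 0) :
    ∃ d : ℕ, 3 ≤ d ∧ d ≠ 4 ∧ (χ : G → ℂ) 1 = (d : ℂ) ∧ (χ : G → ℂ) u = (d : ℂ) - 4 := by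
  obtain ⟨d, hd0, hd⟩ := isIrrCharacter_degree χ.2
  have hv : (χ : G → ℂ) u = (d : ℂ) - 4 := by
    linear_combination hd - (hyp χ hne).resolve_right h0
  have h1 : d ≠ 1 := fun e => hne (eq_one_of_degree_one hyp χ (by rw [hd, e, Nat.cast_one]))
  have h2 : d ≠ 2 := fun e => h0 (no_two hyp χ (by rw [hd, e]; norm_num))
  have h4 : d ≠ 4 := fun e => h0 (by rw [hv, e]; norm_num)
  exact ⟨d, by omega, h4, hd, hv⟩

/-- A degree three character which is nonzero at `u`. -/
def IsThree (u : G) (χ : IrrCharacter G) : Prop :=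
  (χ : G → ℂ) 1 = 3 ∧ (χ : G → ℂ) u = -1

theorem isThree_of_re_neg (hyp : FourHyp G u) {χ : IrrCharacter G}
    (h : ((χ : G → ℂ) u).re < 0) : IsThree u χ := by
  have hne : (χ : G → ℂ) ≠ fun _ => (1 : ℂ) := fun e => by rw [e] at h; norm_num at h
  have h0 : (χ : G → ℂ) u ≠ 0 := fun e => by rw [e] at h; norm_num at h
  obtain ⟨d, h3, h4, hd, hv⟩ := val_of_ne_zero hyp hne h0
  have hd3 : d = 3 := by
    by_contra hne3
    have : (5 : ℝ) ≤ d := by exact_mod_cast (show 5 ≤ d by omega)
    rw [hv] at h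
    simp only [Complex.sub_re, Complex.natCast_re, Complex.re_ofNat] at h
    linarith
  subst hd3
  exact ⟨by rw [hd]; norm_num, by rw [hv]; norm_num⟩

theorem sum_degree_mul_val [Fintype (IrrCharacter G)] (hu : u ≠ 1) :
    ∑ χ : IrrCharacter G, (χ : G → ℂ) 1 * (χ : G → ℂ) u = 0 := by
  classical
  have h := sum_irr_mul_conj u 1
  rw [if_neg (fun e => hu (isConj_one_left.1 e))] at h
  rw [← h]
  exact Finset.sum_congr rfl fun χ _ => by rw [conj_irr_one, mul_comm]

theorem exists_three (hyp : FourHyp G u) (hu : u ≠ 1) : ∃ χ : IrrCharacter G, IsThree u χ := by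
  classical
  haveI := Fintype.ofFinite (IrrCharacter G)
  by_contra hno
  push Not at hno
  have h := congrArg Complex.re (sum_degree_mul_val (G := G) hu)
  rw [Complex.re_sum, Complex.zero_re] at h
  have hpos : ∀ χ : IrrCharacter G, 0 ≤ ((χ : G → ℂ) 1 * (χ : G → ℂ) u).re := fun χ => by
    obtain ⟨d, -, hd⟩ := isIrrCharacter_degree χ.2
    rw [hd, Complex.mul_re, Complex.natCast_re, Complex.natCast_im, zero_mul, sub_zero]
    exact mul_nonneg (Nat.cast_nonneg d) (not_lt.1 fun hlt => hno χ (isThree_of_re_neg hyp hlt))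
  have := Finset.single_le_sum (fun χ _ => hpos χ) (Finset.mem_univ (CfsgLib.Block.oneChar G))
  rw [h] at this
  simp [CfsgLib.Block.oneChar] at this
  linarith

/-- A three squares `u` into its kernel. -/
theorem three_sq (hyp : FourHyp G u) {n : ℕ} (ρ : Representation ℂ G (Fin n → ℂ))
    (h1 : ρ.character 1 = 3) (hu : ρ.character u = -1) : ρ (u ^ 2) = 1 := by
  have hn : finrank ℂ (Fin n → ℂ) = 3 := by
    have e : (finrank ℂ (Fin n → ℂ) : ℂ) = 3 := (Representation.char_one ρ).symm.trans h1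
    exact_mod_cast e
  obtain ⟨b₀, μ₀, hμ₀, hb₀, hc₀⟩ := exists_eigen_data ρ u
  let b : Basis (Fin 3) ℂ (Fin n → ℂ) := b₀.reindex (finCongr hn)
  let μ : Fin 3 → ℂ := fun i => μ₀ ((finCongr hn).symm i)
  have hb : ∀ (k : ℕ) (i : Fin 3), ρ (u ^ k) (b i) = μ i ^ k • b i := fun k i => by
    simp only [b, μ, Basis.reindex_apply]
    exact hb₀ k _
  have hμ : ∀ i, μ i ^ orderOf u = 1 := fun i => hμ₀ _
  have hs : μ 0 + μ 1 + μ 2 = -1 := by
    have e := hc₀ 1
    rw [pow_one, hu] at e
    simp only [pow_one] at e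
    rw [← Fin.sum_univ_three, e]
    exact Fintype.sum_equiv (finCongr hn).symm _ _ fun i => rfl
  have hdet : μ 0 * μ 1 * μ 2 = 1 := by
    have h := congrArg Units.val (hom_trivial hyp (MonoidHom.toHomUnits
      ((LinearMap.det : ((Fin n → ℂ) →ₗ[ℂ] (Fin n → ℂ)) →* ℂ).comp ρ)) u)
    rw [Units.val_one, MonoidHom.coe_toHomUnits, MonoidHom.comp_apply] at h
    rw [← h, ← LinearMap.det_toMatrix b,
      show LinearMap.toMatrix b b (ρ u) = Matrix.diagonal μ from ?_, Matrix.det_diagonal,
      Fin.prod_univ_three]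
    ext i j
    have e := hb 1 j
    rw [pow_one, pow_one] at e
    rw [LinearMap.toMatrix_apply, e, map_smul, Basis.repr_self, Finsupp.smul_single, smul_eq_mul,
      mul_one, Matrix.diagonal_apply]
    rcases eq_or_ne i j with rfl | hij
    · simp
    · rw [Finsupp.single_eq_of_ne hij, if_neg hij]
  have hne : ∀ i, μ i ≠ 0 := fun i e => by
    have := hμ i
    rw [e, zero_pow (orderOf_pos u).ne'] at this
    exact zero_ne_one this
  have hconj := congrArg conj hs
  rw [map_add, map_add, map_neg, map_one,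
    conj_eq_inv_of_pow_eq_one (orderOf_pos u).ne' (hμ 0),
    conj_eq_inv_of_pow_eq_one (orderOf_pos u).ne' (hμ 1),
    conj_eq_inv_of_pow_eq_one (orderOf_pos u).ne' (hμ 2)] at hconj
  have he2 : μ 1 * μ 2 + μ 0 * μ 2 + μ 0 * μ 1 = -1 := by
    have := hne 0; have := hne 1; have := hne 2
    field_simp at hconj
    linear_combination hconj - hdet
  have hroot : ∀ i, μ i ^ 2 = 1 := by
    intro i
    have hz : (μ i - 1) * (μ i + 1) ^ 2 = 0 := by
      have hp : (μ i - μ 0) * (μ i - μ 1) * (μ i - μ 2) = 0 := by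
        fin_cases i <;> simp
      linear_combination hp + μ i ^ 2 * hs - μ i * he2 + hdet
    rcases mul_eq_zero.1 hz with h | h
    · linear_combination (μ i + 1) * h
    · have h' : μ i + 1 = 0 := sq_eq_zero_iff.1 h
      linear_combination (μ i - 1) * h'
  refine b.ext fun i => ?_
  rw [hb 2 i, hroot i, one_smul]
  rfl

theorem three_sq_kernel (hyp : FourHyp G u) {χ : IrrCharacter G} (hχ : IsThree u χ) :
    (χ : G → ℂ) (u ^ 2) = 3 := by
  obtain ⟨χ', n, ρ, hρ, rfl⟩ := χ
  dsimp only
  rw [← hχ.1]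
  show LinearMap.trace ℂ _ (ρ (u ^ 2)) = LinearMap.trace ℂ _ (ρ 1)
  rw [three_sq hyp ρ hχ.1 hχ.2, map_one ρ]

/-- A character of degree at least five is a constituent of a product of two threes. -/
theorem exists_product (hyp : FourHyp G u) {χ : IrrCharacter G} (hχ : IsThree u χ)
    (θ : IrrCharacter G) {d : ℕ} (hd : 5 ≤ d) (h1 : (θ : G → ℂ) 1 = (d : ℂ))
    (hv : (θ : G → ℂ) u = (d : ℂ) - 4) :
    ∃ (τ : IrrCharacter G) (l : List (IrrCharacter G)), IsThree u τ ∧ θ ∈ l ∧
      (fun g => conj ((χ : G → ℂ) g) * (τ : G → ℂ) g) = (l.map (fun ψ : IrrCharacter G => (ψ : G → ℂ))).sum := by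
  classical
  haveI := Fintype.ofFinite G
  obtain ⟨l₀, hl₀⟩ := exists_list (isCharacter_mul (isCharacter_irr χ) (isCharacter_irr θ))
  have hex : ∃ τ ∈ l₀, ((τ : G → ℂ) u).re < 0 := by
    by_contra hno
    push Not at hno
    have e := congrArg Complex.re (congrFun hl₀ u)
    rw [list_sum_apply, Pi.mul_apply, hχ.2, hv] at e
    have hnn : 0 ≤ ((l₀.map (fun ψ : IrrCharacter G => (ψ : G → ℂ) u)).sum).re := by
      clear e hl₀
      induction l₀ with
      | nil => simp
      | cons a l ih =>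
        rw [List.map_cons, List.sum_cons, Complex.add_re]
        have := hno a (List.mem_cons_self ..)
        have := ih fun x hx => hno x (List.mem_cons_of_mem _ hx)
        linarith
    have h5 : (5 : ℝ) ≤ d := by exact_mod_cast hd
    simp only [Complex.mul_re, Complex.sub_re, Complex.sub_im, Complex.natCast_re, Complex.natCast_im, Complex.re_ofNat, Complex.im_ofNat, Complex.neg_re, Complex.neg_im, Complex.one_re, Complex.one_im] at e
    linarith
  obtain ⟨τ, hτl, hτ⟩ := hex
  refine ⟨τ, ?_⟩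
  obtain ⟨l, hl⟩ := exists_list (isCharacter_mul (isCharacter_conj (isCharacter_irr χ))
    (isCharacter_irr τ))
  refine ⟨l, isThree_of_re_neg hyp hτ, ?_, ?_⟩
  · have h := classInner_list l₀ τ
    rw [← hl₀] at h
    have h' := classInner_list l θ
    rw [← hl] at h'
    have e : classInner ((fun g => conj ((χ : G → ℂ) g)) * (τ : G → ℂ)) (θ : G → ℂ) =
        conj (classInner ((χ : G → ℂ) * (θ : G → ℂ)) (τ : G → ℂ)) := by
      simp only [classInner, map_mul, map_sum, map_inv₀, map_natCast, Pi.mul_apply,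
        Complex.conj_conj]
      exact congrArg _ (Finset.sum_congr rfl fun g _ => by ring)
    rw [h, map_natCast] at e
    rw [e] at h'
    have h'' : l₀.count τ = l.count θ := by exact_mod_cast h'
    exact List.count_pos_iff.1 (h'' ▸ List.count_pos_iff.2 hτl)
  · rw [← hl]; rfl

/-- Only degrees three, five and six occur. -/
theorem degree_cases (hyp : FourHyp G u) (hu : u ≠ 1) {θ : IrrCharacter G}
    (hne : (θ : G → ℂ) ≠ fun _ => (1 : ℂ)) (h0 : (θ : G → ℂ) u ≠ 0) :
    ((θ : G → ℂ) 1 = 3 ∧ (θ : G → ℂ) u = -1) ∨ ((θ : G → ℂ) 1 = 5 ∧ (θ : G → ℂ) u = 1) ∨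
      ((θ : G → ℂ) 1 = 6 ∧ (θ : G → ℂ) u = 2) := by
  classical
  obtain ⟨d, h3, h4, h1, hv⟩ := val_of_ne_zero hyp hne h0
  suffices d = 3 ∨ d = 5 ∨ d = 6 by
    rcases this with rfl | rfl | rfl <;> rw [hv, h1] <;> norm_num
  by_contra hd
  obtain ⟨χ, hχ⟩ := exists_three hyp hu
  obtain ⟨τ, l, hτ, hmem, hl⟩ := exists_product hyp hχ θ (by omega) h1 hv
  have hperm := List.perm_cons_erase hmem
  have e1 : (9 : ℂ) = (d : ℂ) + ((l.erase θ).map (fun ψ : IrrCharacter G => (ψ : G → ℂ) 1)).sum := by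
    have e := congrFun hl 1
    rw [hχ.1, hτ.1, list_sum_apply, (hperm.map _).sum_eq, List.map_cons, List.sum_cons, h1] at e
    rw [← e, map_ofNat]
    norm_num
  have eu : (1 : ℂ) = (d : ℂ) - 4 + ((l.erase θ).map (fun ψ : IrrCharacter G => (ψ : G → ℂ) u)).sum := by
    have e := congrFun hl u
    rw [hχ.2, hτ.2, list_sum_apply, (hperm.map _).sum_eq, List.map_cons, List.sum_cons, hv] at e
    rw [← e]
    simp
  have hsmall : ∀ L : List (IrrCharacter G),
      0 ≤ ((L.map (fun ψ : IrrCharacter G => (ψ : G → ℂ) 1)).sum).re ∧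
      ((((L.map (fun ψ : IrrCharacter G => (ψ : G → ℂ) 1)).sum).re ≤ 2 →
        0 ≤ ((L.map (fun ψ : IrrCharacter G => (ψ : G → ℂ) u)).sum).re)) := by
    intro L
    induction L with
    | nil => simp
    | cons a L ih =>
      simp only [List.map_cons, List.sum_cons, Complex.add_re]
      obtain ⟨k, -, hk⟩ := isIrrCharacter_degree a.2
      rw [hk, Complex.natCast_re]
      refine ⟨add_nonneg (Nat.cast_nonneg k) ih.1, fun h => ?_⟩
      have hk0 : (0 : ℝ) ≤ (k : ℝ) := Nat.cast_nonneg k
      have ha : 0 ≤ ((a : G → ℂ) u).re := by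
        by_contra hlt
        have := (isThree_of_re_neg hyp (not_le.1 hlt)).1
        rw [hk] at this
        have hk3 : k = 3 := by exact_mod_cast this
        rw [hk3] at h
        have := ih.1
        norm_num at h
        linarith
      have := ih.2 (by linarith)
      linarith
  have h7 : (7 : ℝ) ≤ d := by exact_mod_cast (show 7 ≤ d by omega)
  have r1 := congrArg Complex.re e1
  have ru := congrArg Complex.re eu
  simp only [Complex.add_re, Complex.sub_re, Complex.natCast_re, Complex.re_ofNat, Complex.one_re] at r1 ru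
  have := (hsmall (l.erase θ)).2 (by linarith)
  linarith

/-- Everything nonzero at `u` is trivial on the kernel of all threes. -/
theorem trivial_of_threes (hyp : FourHyp G u) (hu : u ≠ 1) {k : G}
    (hk : ∀ χ : IrrCharacter G, IsThree u χ → (χ : G → ℂ) k = 3) {θ : IrrCharacter G}
    (h0 : (θ : G → ℂ) u ≠ 0) : (θ : G → ℂ) k = (θ : G → ℂ) 1 := by
  classical
  by_cases hne : (θ : G → ℂ) = fun _ => (1 : ℂ)
  · rw [hne]
  obtain ⟨d, h3, h4, h1, hv⟩ := val_of_ne_zero hyp hne h0
  by_cases hd : d = 3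
  · subst hd
    have : IsThree u θ := ⟨by rw [h1]; norm_num, by rw [hv]; norm_num⟩
    rw [hk θ this, this.1]
  obtain ⟨χ, hχ⟩ := exists_three hyp hu
  obtain ⟨τ, l, hτ, hmem, hl⟩ := exists_product hyp hχ θ (by omega) h1 hv
  have e1 := congrFun hl 1
  have ek := congrFun hl k
  rw [hχ.1, hτ.1, list_sum_apply] at e1
  rw [hk χ hχ, hk τ hτ, list_sum_apply] at ek
  have e := congrArg Complex.re (ek.symm.trans e1)
  have hp := (List.perm_cons_erase hmem)
  rw [((hp.map _).sum_eq), ((hp.map _).sum_eq), List.map_cons, List.sum_cons, List.map_cons,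
    List.sum_cons, Complex.add_re, Complex.add_re] at e
  have hle : ∀ L : List (IrrCharacter G), ((L.map (fun ψ : IrrCharacter G => (ψ : G → ℂ) k)).sum).re ≤
      ((L.map (fun ψ : IrrCharacter G => (ψ : G → ℂ) 1)).sum).re := by
    intro L
    induction L with
    | nil => simp
    | cons a L ih =>
      simp only [List.map_cons, List.sum_cons, Complex.add_re]
      exact add_le_add (re_le_degree a k) ih
  refine eq_degree_of_re θ k (le_antisymm (re_le_degree θ k) ?_)
  have := hle (l.erase θ)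
  linarith

end CfsgLib.Char.ConstDegree
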