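import Cfsg.Agent.Lib.Char.ClassMul
import Cfsg.Agent.Lib.Char.Linear
import Cfsg.Agent.Lib.Char.Product
import Cfsg.Agent.Lib.Block.Blocks

/-!
# Constant degree minus value: the character counts

Every nonprincipal irreducible character either vanishes at `u` or has degree minus value at `u`
equal to `4`.
-/

set_option autoImplicit false
set_option linter.unusedSectionVars false

namespace CfsgLib.Char.ConstDegree

open scoped ComplexConjugate
open Representation Module Cfsg

universe u v

variable {G : Type u} [Group G] [Finite G]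

/-- The hypothesis on `u`. -/
def FourHyp (G : Type u) [Group G] (u : G) : Prop :=
  ∀ χ : IrrCharacter G, (χ : G → ℂ) ≠ (fun _ => (1 : ℂ)) →
    ((χ : G → ℂ) 1 - (χ : G → ℂ) u = 4 ∨ (χ : G → ℂ) u = 0)

variable {u : G}

theorem FourHyp.map (hyp : FourHyp G u) {H : Type u} [Group H] (f : G →* H)
    (hf : Function.Surjective f) : FourHyp H (f u) := by
  intro χ hne
  have h := hyp ⟨_, isIrrCharacter_comp_surjective χ.2 f hf⟩ fun e => hne (funext fun y => by
    obtain ⟨x, rfl⟩ := hf y
    exact congrFun e x)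
  simpa only [map_one] using h

/-- Degree one and nonprincipal is impossible. -/
theorem eq_one_of_degree_one (hyp : FourHyp G u) (χ : IrrCharacter G) (h1 : (χ : G → ℂ) 1 = 1) :
    (χ : G → ℂ) = fun _ => (1 : ℂ) := by
  by_contra hne
  obtain ⟨χ', n, ρ, hρ, rfl⟩ := χ
  have hn : finrank ℂ (Fin n → ℂ) = 1 := by
    have e : (finrank ℂ (Fin n → ℂ) : ℂ) = 1 := (Representation.char_one ρ).symm.trans h1
    exact_mod_cast e
  obtain ⟨b, μ, hμ, -, h3⟩ := exists_eigen_data ρ u
  have e := h3 1
  rw [pow_one] at e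
  simp only [pow_one] at e
  have hnorm : ‖ρ.character u‖ = 1 := by
    have hi : Finset.univ = {(⟨0, by omega⟩ : Fin (finrank ℂ (Fin n → ℂ)))} := by
      ext i
      simp only [Finset.mem_univ, Finset.mem_singleton, true_iff]
      exact Fin.ext (by have := i.2; simp only; omega)
    rw [e, hi, Finset.sum_singleton]
    exact norm_eq_one_of_pow_eq_one' (orderOf_pos u).ne' (hμ _)
  rcases hyp _ hne with h | h <;> dsimp only at h h1
  · rw [show ρ.character u = -3 by linear_combination h1 - h, norm_neg] at hnorm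
    norm_num at hnorm
  · rw [h, norm_zero] at hnorm
    norm_num at hnorm

theorem commutator_eq_top (hyp : FourHyp G u) : commutator G = ⊤ := by
  rw [← Subgroup.index_eq_one, ← card_linear, Nat.card_eq_one_iff_exists]
  exact ⟨⟨CfsgLib.Block.oneChar G, rfl⟩, fun χ => Subtype.ext (Subtype.ext
    (eq_one_of_degree_one hyp χ.1 χ.2))⟩

theorem hom_trivial (hyp : FourHyp G u) {A : Type*} [CommGroup A] (f : G →* A) (g : G) : f g = 1 := by
  have h := Abelianization.commutator_subset_ker f
  rw [commutator_eq_top hyp] at h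
  exact MonoidHom.mem_ker.1 (h (Subgroup.mem_top g))

/-- No character of degree two is nonzero at `u`. -/
theorem no_two (hyp : FourHyp G u) (χ : IrrCharacter G) (h2 : (χ : G → ℂ) 1 = 2) :
    (χ : G → ℂ) u = 0 := by
  classical
  by_contra h0
  have hne : (χ : G → ℂ) ≠ fun _ => (1 : ℂ) := fun e => by rw [e] at h2; norm_num at h2
  have hval : (χ : G → ℂ) u = -2 := by
    linear_combination h2 - (hyp χ hne).resolve_right h0
  obtain ⟨χ', n, ρ, hρ, rfl⟩ := χ
  dsimp only at h2 hval
  have hn : (finrank ℂ (Fin n → ℂ) : ℂ) = 2 := (Representation.char_one ρ).symm.trans h2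
  obtain ⟨ω, hω⟩ := (norm_char_eq_iff ρ u).1 (by
    rw [hval, norm_neg, ← hn, RCLike.norm_natCast])
  have hω1 : ω = -1 := by
    rw [Representation.character, hω, trace_smul_id, hn] at hval
    linear_combination (1 / 2 : ℂ) * hval
  subst hω1
  have hK : ∀ g : G, g ∈ MonoidHom.ker ρ ↔ ρ g = 1 := fun g => Iff.rfl
  let f : G →* G ⧸ MonoidHom.ker ρ := QuotientGroup.mk' _
  have hf : Function.Surjective f := QuotientGroup.mk'_surjective _
  have hker : ∀ g, f g = 1 ↔ ρ g = 1 := fun g => (QuotientGroup.eq_one_iff g).trans (hK g)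
  have hsq : f u * f u = 1 := by
    rw [← map_mul, hker, map_mul, hω]
    ext v
    simp
  have hu1 : f u ≠ 1 := by
    rw [Ne, hker]
    intro e
    rw [Representation.character, e, LinearMap.trace_one, hn] at hval
    norm_num at hval
  have hcen : f u ∈ Subgroup.center (G ⧸ MonoidHom.ker ρ) := by
    refine Subgroup.mem_center_iff.2 fun y => ?_
    obtain ⟨g, rfl⟩ := hf y
    rw [← map_mul, ← map_mul]
    rw [← mul_inv_eq_one, ← map_inv, ← map_mul, hker, map_mul,
      show ρ (g * u) = ρ (u * g) by rw [map_mul, map_mul, hω]; ext v; simp,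
      ← map_mul, mul_inv_cancel, map_one]
  have hq := hyp.map f hf
  -- every irreducible character of the quotient is trivial or of degree two
  haveI := Fintype.ofFinite (IrrCharacter (G ⧸ MonoidHom.ker ρ))
  have hdeg : ∀ θ : IrrCharacter (G ⧸ MonoidHom.ker ρ), θ ≠ CfsgLib.Block.oneChar _ →
      ((θ : G ⧸ MonoidHom.ker ρ → ℂ)) 1 = 2 := by
    intro θ hθ
    have hθ' : ((θ : G ⧸ MonoidHom.ker ρ → ℂ)) ≠ fun _ => (1 : ℂ) := fun e => hθ (Subtype.ext e)
    have hq' := hq θ hθ'
    obtain ⟨θ', m, σ, hσ, rfl⟩ := θ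
    dsimp only at hq' ⊢
    obtain ⟨c, hc⟩ := exists_scalar_of_mem_center σ hcen
    have hnorm := (norm_char_eq_iff σ (f u)).2 ⟨c, hc⟩
    have hd := Representation.char_one σ
    have hpos := finrank_pos_of_irreducible σ
    rcases hq' with h | h
    · have hval' : σ.character (f u) = ((finrank ℂ (Fin m → ℂ) : ℂ) - 4) := by
        linear_combination hd - h
      have hs : ‖((finrank ℂ (Fin m → ℂ) : ℂ) - 4)‖ = |((finrank ℂ (Fin m → ℂ) : ℝ) - 4)| := by
        rw [← Real.norm_eq_abs, ← Complex.norm_real]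
        push_cast
        rfl
      rw [hval', hs] at hnorm
      rw [hd]
      have h2' : (finrank ℂ (Fin m → ℂ) : ℝ) = 2 := by
        rcases abs_choice ((finrank ℂ (Fin m → ℂ) : ℝ) - 4) with e | e <;> linarith
      exact_mod_cast congrArg (fun r : ℝ => (r : ℂ)) h2'
    · rw [h, norm_zero] at hnorm
      exact absurd (by exact_mod_cast hnorm.symm : finrank ℂ (Fin m → ℂ) = 0) hpos.ne'
  -- hence the quotient has odd order, but it has the involution `f u`
  have hsum := sum_degree_sq (G := G ⧸ MonoidHom.ker ρ)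
  rw [← Finset.add_sum_erase _ _ (Finset.mem_univ (CfsgLib.Block.oneChar _)),
    Finset.sum_congr rfl (fun θ hθ => by rw [hdeg θ (Finset.ne_of_mem_erase hθ)] :
      ∀ θ ∈ Finset.univ.erase (CfsgLib.Block.oneChar (G ⧸ MonoidHom.ker ρ)),
        ((θ : G ⧸ MonoidHom.ker ρ → ℂ)) 1 ^ 2 = (2 : ℂ) ^ 2)] at hsum
  rw [show ((CfsgLib.Block.oneChar (G ⧸ MonoidHom.ker ρ)) : G ⧸ MonoidHom.ker ρ → ℂ) 1 = 1 from rfl,
    Finset.sum_const, nsmul_eq_mul] at hsum
  have hN : Nat.card (G ⧸ MonoidHom.ker ρ) = 1 +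
      (Finset.univ.erase (CfsgLib.Block.oneChar (G ⧸ MonoidHom.ker ρ))).card * 4 := by
    have : ((Nat.card (G ⧸ MonoidHom.ker ρ) : ℕ) : ℂ) = ((1 +
      (Finset.univ.erase (CfsgLib.Block.oneChar (G ⧸ MonoidHom.ker ρ))).card * 4 : ℕ) : ℂ) := by
      push_cast; linear_combination -hsum
    exact_mod_cast this
  have h2 : orderOf (f u) = 2 := orderOf_eq_prime (by rw [pow_two, hsq]) hu1
  have := h2 ▸ orderOf_dvd_natCard (f u)
  omega

end CfsgLib.Char.ConstDegree
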