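import Cfsg.Agent.Lib.Char.ConstDegreeMinusValue.Main

/-!
# Constant degree minus value: identification
-/

set_option autoImplicit false
set_option linter.style.haveILetI false

namespace CfsgLib.Char.ConstDegree

open Cfsg
open scoped commutatorElement

universe u

variable {G : Type u} [Group G] [Finite G] {u : G}

theorem perfect_quotient (hp : commutator G = ⊤) (N : Subgroup G) [N.Normal] :
    commutator (G ⧸ N) = ⊤ := by
  rw [commutator_def, ← Subgroup.map_top_of_surjective _ (QuotientGroup.mk'_surjective N),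
    ← Subgroup.map_commutator, ← commutator_def, hp]

/-- The whole statement. -/
theorem structure_of_hyp (hyp : FourHyp G u) (hu : u ≠ 1) :
    IsMulCommutative (Cfsg.oddCore G) ∧
      ((Nonempty (G ⧸ Cfsg.oddCore G ≃* Matrix.ProjectiveSpecialLinearGroup (Fin 2) (ZMod 5)) ∧
          orderOf u = 2) ∨
        (Nonempty (G ⧸ Cfsg.oddCore G ≃* Matrix.SpecialLinearGroup (Fin 2) (ZMod 5)) ∧
          orderOf u = 4)) := by
  classical
  obtain ⟨C⟩ := exists_cover hyp hu
  haveI := C.normal
  have hp := commutator_eq_top hyp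
  obtain ⟨⟨e⟩, hsimple⟩ := psl_of_sixty (perfect_quotient hp C.K) C.card
  by_cases h2 : u * u = 1
  · have hK := C.bot_of_sq hu h2
    have hO : Cfsg.oddCore G = ⊥ := by
      refine le_bot_iff.1 (hK ▸ ?_)
      haveI := hsimple
      rcases IsSimpleGroup.eq_bot_or_eq_top_of_normal ((Cfsg.oddCore G).map (QuotientGroup.mk' C.K))
        (Subgroup.Normal.map inferInstance _ (QuotientGroup.mk'_surjective C.K)) with h | h
      · rw [Subgroup.map_eq_bot_iff, QuotientGroup.ker_mk'] at h
        exact h
      · have hd := Subgroup.card_map_dvd (H := Cfsg.oddCore G) (QuotientGroup.mk' C.K)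
        rw [h, Subgroup.card_top, C.card] at hd
        exact absurd ((coprime_oddCore G).of_dvd_nat hd) (by decide)
    refine ⟨⟨⟨fun a b => ?_⟩⟩, Or.inl ⟨⟨(QuotientGroup.quotientMulEquivOfEq (hO.trans hK.symm)).trans e⟩,
      orderOf_eq_prime (by rw [pow_two, h2]) hu⟩⟩
    have ha : a = 1 := Subtype.ext (Subgroup.mem_bot.1 (hO ▸ a.2 : (a : G) ∈ (⊥ : Subgroup G)))
    rw [ha, one_mul, mul_one]
  obtain ⟨h4, hab, hOle, hzO, hK2⟩ := C.four_case hu h2
  refine ⟨hab, Or.inr ⟨?_, h4⟩⟩
  set O := Cfsg.oddCore G with hO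
  let mk := QuotientGroup.mk' O
  have hmk : Function.Surjective mk := QuotientGroup.mk'_surjective O
  haveI : Fact (Nat.Prime 5) := ⟨by norm_num⟩
  have hcenter : Subgroup.center (G ⧸ O) = C.K.map mk := by
    refine le_antisymm ?_ ?_
    · intro q hq
      obtain ⟨g, rfl⟩ := hmk q
      refine ⟨g, ?_, rfl⟩
      have hg : QuotientGroup.mk' C.K g ∈ Subgroup.center (G ⧸ C.K) := by
        refine Subgroup.mem_center_iff.2 fun y => ?_
        obtain ⟨x, rfl⟩ := QuotientGroup.mk'_surjective _ y
        have h := Subgroup.mem_center_iff.1 hq (mk x)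
        rw [← map_mul, ← map_mul] at h
        rw [← map_mul, ← map_mul]
        exact QuotientGroup.eq.2 (hOle (QuotientGroup.eq.1 h))
      haveI := hsimple
      have hbot : Subgroup.center (G ⧸ C.K) = ⊥ := by
        rcases IsSimpleGroup.eq_bot_or_eq_top_of_normal (Subgroup.center (G ⧸ C.K)) inferInstance
          with h | h
        · exact h
        · exfalso
          haveI : Nontrivial (G ⧸ C.K) :=
            Finite.one_lt_card_iff_nontrivial.1 (by rw [C.card]; norm_num)
          have hcomm : commutator (G ⧸ C.K) = ⊥ := by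
            rw [commutator_def, Subgroup.commutator_eq_bot_iff_le_centralizer]
            intro x _
            rw [Subgroup.mem_centralizer_iff]
            intro y _
            exact Subgroup.mem_center_iff.1 (h ▸ Subgroup.mem_top x) y
          rw [perfect_quotient hp C.K] at hcomm
          exact top_ne_bot hcomm
      rw [hbot, Subgroup.mem_bot] at hg
      exact (QuotientGroup.eq_one_iff g).1 hg
    · rintro _ ⟨k, hk, rfl⟩
      refine Subgroup.mem_center_iff.2 fun y => ?_
      obtain ⟨g, rfl⟩ := hmk y
      have hg : ∀ {x : G}, x ∈ O → mk x = 1 := fun h => (QuotientGroup.eq_one_iff _).2 h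
      have hval : ∀ x ∈ C.K, mk x = 1 ∨ mk x = (mk (u * u))⁻¹ := fun x hx => by
        rcases hK2 x hx with h | h
        · exact Or.inl (hg h)
        · right
          refine eq_inv_of_mul_eq_one_right ?_
          rw [← map_mul]; exact hg h
      have hone : ∀ x ∈ C.K, mk x = 1 → x ∈ O := fun x _ h => (QuotientGroup.eq_one_iff _).1 h
      have hconj : mk (g * k * g⁻¹) = mk k := by
        have hiff : k ∈ O ↔ g * k * g⁻¹ ∈ O :=
          ⟨fun h => (inferInstance : O.Normal).conj_mem k h g, fun h => by
            have := (inferInstance : O.Normal).conj_mem _ h g⁻¹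
            rwa [show g⁻¹ * (g * k * g⁻¹) * g⁻¹⁻¹ = k by group] at this⟩
        rcases hval k hk with a | a <;> rcases hval _ (C.normal.conj_mem k hk g) with b | b
        · rw [a, b]
        · rw [a, hg (hiff.1 (hone k hk a))]
        · rw [b, hg (hiff.2 (hone _ (C.normal.conj_mem k hk g) b))]
        · rw [a, b]
      rw [map_mul, map_mul, map_inv, mul_inv_eq_iff_eq_mul] at hconj
      exact hconj
  haveI : (C.K.map mk).Normal := C.normal.map _ hmk
  have e' : (G ⧸ O) ⧸ Subgroup.center (G ⧸ O) ≃*
      Matrix.ProjectiveSpecialLinearGroup (Fin 2) (ZMod 5) :=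
    ((QuotientGroup.quotientMulEquivOfEq hcenter).trans
      (QuotientGroup.quotientQuotientEquivQuotient O C.K hOle)).trans e
  have hperf : Group.IsPerfect (G ⧸ O) := ⟨perfect_quotient hp O⟩
  by_contra hex
  have hbot := CfsgLib.Char.CTwo.center_eq_bot_psl2_five hperf (ZMod.card 5) e' hex
  rw [hcenter, Subgroup.map_eq_bot_iff, QuotientGroup.ker_mk'] at hbot
  exact hzO (hbot C.sq_mem)

end CfsgLib.Char.ConstDegree
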