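import Cfsg.Agent.Lib.Char.ConstDegreeMinusValue.Kernel
import Cfsg.Agent.Lib.Char.CTwo.Center
import Mathlib.GroupTheory.FixedPointFree
import Cfsg.Prelude.Def_CaseTheorems

/-!
# Constant degree minus value: the structure
-/

set_option autoImplicit false
set_option linter.unusedSectionVars false
set_option linter.style.haveILetI false

namespace CfsgLib.Char.ConstDegree

open scoped ComplexConjugate
open Representation Module Cfsg

universe u

variable {G : Type u} [Group G] [Finite G] {u : G}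

theorem coprime_oddCore (G : Type u) [Group G] [Finite G] :
    Odd (Nat.card (Cfsg.oddCore G)) := by
  refine Nat.coprime_two_right.1 ?_
  exact CfsgLib.Coprime.pPrimeCore_coprime Nat.prime_two

theorem le_oddCore {N : Subgroup G} (hN : N.Normal) (h : Odd (Nat.card N)) :
    N ≤ Cfsg.oddCore G :=
  le_sSup ⟨hN, Nat.coprime_two_right.2 h⟩

theorem odd_orderOf_of_mem {N : Subgroup G} (h : Odd (Nat.card N)) {x : G} (hx : x ∈ N) :
    Odd (orderOf x) := h.of_dvd_nat (Subgroup.orderOf_dvd_natCard N hx)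

/-- An element squaring into the centralizer and without fixed points inverts. -/
theorem inverts (x : G) {C : Subgroup G} (hnorm : ∀ g ∈ C, x * g * x⁻¹ ∈ C)
    (hsq : ∀ g ∈ C, x * x * g = g * (x * x)) (hfix : ∀ g ∈ C, x * g = g * x → g = 1) :
    ∀ g ∈ C, x * g * x⁻¹ = g⁻¹ := by
  let φ : C →* C :=
    { toFun := fun g => ⟨x * g * x⁻¹, hnorm g g.2⟩
      map_one' := Subtype.ext (by simp)
      map_mul' := fun a b => Subtype.ext (show x * (a * b) * x⁻¹ = x * a * x⁻¹ * (x * b * x⁻¹) by group) }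
  have hφ : MonoidHom.FixedPointFree φ := fun g hg => by
    have h : x * (g : G) * x⁻¹ = g := congrArg Subtype.val hg
    exact Subtype.ext (hfix g g.2 (mul_inv_eq_iff_eq_mul.1 h))
  have hi : Function.Involutive φ := fun g => Subtype.ext (by
    show x * (x * (g : G) * x⁻¹) * x⁻¹ = g
    calc x * (x * (g : G) * x⁻¹) * x⁻¹ = x * x * g * (x * x)⁻¹ := by group
      _ = g := by rw [hsq g g.2]; group)
  intro g hg
  exact congrArg Subtype.val (congrFun (hφ.coe_eq_inv_of_involutive hi) ⟨g, hg⟩)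

/-- The setting of the proof. -/
structure Cover (G : Type u) [Group G] (u : G) where
  K : Subgroup G
  normal : K.Normal
  card : Nat.card (G ⧸ K) = 60
  u_not : u ∉ K
  sq_mem : u * u ∈ K
  conjU : ∀ x : G, x ∉ K → x⁻¹ * u⁻¹ * x * u ∈ K → IsConj u x
  cent : Nat.card (Subgroup.centralizer ({u} : Set G)) = 4
  W : Subgroup G
  mem_W : ∀ x, x ∈ W ↔ x⁻¹ * u⁻¹ * x * u ∈ K
  top_comm : ∀ x : G, x ∈ commutator G
  le_W : K ≤ W
  rel : K.relIndex W = 4

theorem exists_cover (hyp : FourHyp G u) (hu : u ≠ 1) : Nonempty (Cover G u) := by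
  classical
  obtain ⟨K, hK, h60, huK, hsq, hker⟩ := exists_kernel hyp hu
  let f := QuotientGroup.mk' K
  have hf : Function.Surjective f := QuotientGroup.mk'_surjective K
  have hmem : ∀ x, f x = 1 ↔ x ∈ K := fun x => QuotientGroup.eq_one_iff x
  have hyp' := hyp.map f hf
  have hu' : f u ≠ 1 := fun e => huK ((hmem u).1 e)
  obtain ⟨-, hc, hcl⟩ := small hyp' hu' (by rw [← map_mul, hmem]; exact hsq)
  let W : Subgroup G := (Subgroup.centralizer ({f u} : Set (G ⧸ K))).comap f
  have hW : ∀ x, x ∈ W ↔ x⁻¹ * u⁻¹ * x * u ∈ K := fun x => by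
    rw [← hmem, map_mul, map_mul, map_mul, map_inv, map_inv]
    show f x ∈ Subgroup.centralizer ({f u} : Set (G ⧸ K)) ↔ _
    rw [Subgroup.mem_centralizer_singleton_iff]
    constructor
    · intro h
      calc (f x)⁻¹ * (f u)⁻¹ * f x * f u = (f x)⁻¹ * (f u)⁻¹ * (f x * f u) := by group
        _ = 1 := by rw [h]; group
    · intro h
      calc f x * f u = f u * f x * ((f x)⁻¹ * (f u)⁻¹ * f x * f u) := by group
        _ = f u * f x := by rw [h, mul_one]
  have hKW : K ≤ W := fun k hk => by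
    show f k ∈ Subgroup.centralizer ({f u} : Set (G ⧸ K))
    rw [(hmem k).2 hk]; exact Subgroup.one_mem _
  have hrel : K.relIndex W = 4 := by
    have h := Subgroup.relIndex_comap (f := f) (K := W) (H := (⊥ : Subgroup (G ⧸ K)))
    rw [MonoidHom.comap_bot, QuotientGroup.ker_mk',
      Subgroup.map_comap_eq_self_of_surjective hf, Subgroup.relIndex_bot_left, hc] at h
    exact h
  have hconj : ∀ x : G, x ∉ K → x ∈ W → IsConj u x := by
    intro x hx hxW
    obtain ⟨g', hg'⟩ := isConj_iff.1 (hcl (f x) hxW fun e => hx ((hmem x).1 e))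
    obtain ⟨g, rfl⟩ := hf g'
    rw [← map_inv, ← map_mul, ← map_mul] at hg'
    have hk : (g * u * g⁻¹)⁻¹ * x ∈ K := QuotientGroup.eq.1 hg'
    have hk' : u⁻¹ * (g⁻¹ * x * g) ∈ K := by
      have h := hK.conj_mem _ hk g⁻¹
      rwa [show g⁻¹ * ((g * u * g⁻¹)⁻¹ * x) * g⁻¹⁻¹ = u⁻¹ * (g⁻¹ * x * g) by group] at h
    obtain ⟨a, ha⟩ := isConj_iff.1 (isConj_mul_kernel hyp hu fun χ hχ => hker χ hχ _ hk')
    refine isConj_iff.2 ⟨g * a, ?_⟩
    rw [show g * a * u * (g * a)⁻¹ = g * (a * u * a⁻¹) * g⁻¹ by group, ha]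
    group
  -- the class of `u` contains its whole coset
  have hcent : Nat.card (Subgroup.centralizer ({u} : Set G)) = 4 := by
    have huW : ∀ x : G, x ∈ W → u⁻¹ * (x * u * x⁻¹) ∈ K := fun x hx => by
      rw [← hmem, map_mul, map_mul, map_mul, map_inv, map_inv,
        Subgroup.mem_centralizer_singleton_iff.1 hx, mul_inv_cancel_right, inv_mul_cancel]
    let F : W ⧸ (Subgroup.centralizer ({u} : Set G)).subgroupOf W → K :=
      Quotient.lift (fun s => ⟨u⁻¹ * ((s : G) * u * (s : G)⁻¹), huW _ s.2⟩) (by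
        intro a b hab
        have h := Subgroup.mem_centralizer_singleton_iff.1 (Subgroup.mem_subgroupOf.1 (QuotientGroup.leftRel_apply.1
          (show QuotientGroup.leftRel ((Subgroup.centralizer ({u} : Set G)).subgroupOf W) a b from hab)))
        refine Subtype.ext (congrArg (fun t => u⁻¹ * t) ?_)
        simp only [Subgroup.subtype_apply, Subgroup.coe_mul, Subgroup.coe_inv] at h
        calc (a : G) * u * (a : G)⁻¹ = a * (u * ((a : G)⁻¹ * b)) * (b : G)⁻¹ := by group
          _ = a * ((a : G)⁻¹ * b * u) * (b : G)⁻¹ := by rw [h]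
          _ = b * u * (b : G)⁻¹ := by group)
    have hF : Function.Bijective F := by
      constructor
      · intro x y h
        obtain ⟨a, rfl⟩ := QuotientGroup.mk_surjective x
        obtain ⟨b, rfl⟩ := QuotientGroup.mk_surjective y
        have h' : (a : G) * u * (a : G)⁻¹ = b * u * (b : G)⁻¹ :=
          mul_left_cancel (congrArg Subtype.val h)
        refine QuotientGroup.eq.2 (Subgroup.mem_centralizer_singleton_iff.2 ?_)
        show ((a : G)⁻¹ * b) * u = u * ((a : G)⁻¹ * b)
        calc (a : G)⁻¹ * b * u = (a : G)⁻¹ * (b * u * (b : G)⁻¹) * b := by group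
          _ = (a : G)⁻¹ * (a * u * (a : G)⁻¹) * b := by rw [h']
          _ = u * ((a : G)⁻¹ * b) := by group
      · rintro ⟨k, hk⟩
        obtain ⟨g, hg⟩ := isConj_iff.1 (isConj_mul_kernel hyp hu fun χ hχ => hker χ hχ _ hk)
        have hgW : g ∈ W := by
          show f g ∈ Subgroup.centralizer ({f u} : Set (G ⧸ K))
          rw [Subgroup.mem_centralizer_singleton_iff]
          have h := congrArg f hg
          rw [map_mul, map_mul, map_mul, map_inv, (hmem k).2 hk, mul_one] at h
          exact mul_inv_eq_iff_eq_mul.1 h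
        refine ⟨((⟨g, hgW⟩ : W) : W ⧸ _), Subtype.ext ?_⟩
        show u⁻¹ * (g * u * g⁻¹) = k
        rw [hg]; group
    have h1 := Nat.card_eq_of_bijective F hF
    have h2 := ((Subgroup.centralizer ({u} : Set G)).subgroupOf W).card_mul_index
    rw [Subgroup.index_eq_card, h1] at h2
    have hle : Subgroup.centralizer ({u} : Set G) ≤ W := fun x hx => by
      show f x ∈ Subgroup.centralizer ({f u} : Set (G ⧸ K))
      rw [Subgroup.mem_centralizer_singleton_iff, ← map_mul, ← map_mul,
        Subgroup.mem_centralizer_singleton_iff.1 hx]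
    rw [Nat.card_congr (Subgroup.subgroupOfEquivOfLe hle).toEquiv] at h2
    have h3 := (K.subgroupOf W).card_mul_index
    rw [show (K.subgroupOf W).index = 4 from hrel,
      Nat.card_congr (Subgroup.subgroupOfEquivOfLe hKW).toEquiv, ← h2, mul_comm (Nat.card K)] at h3
    exact (Nat.eq_of_mul_eq_mul_right Nat.card_pos h3).symm
  exact ⟨⟨K, hK, h60, huK, hsq, fun x h1 h2 => hconj x h1 ((hW x).2 h2), hcent, W, hW, fun x => commutator_eq_top hyp ▸ Subgroup.mem_top x, hKW, hrel⟩⟩

namespace Cover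

variable (C : Cover G u)

theorem u_mem_W : u ∈ C.W := (C.mem_W u).2 (by
  rw [show u⁻¹ * u⁻¹ * u * u = 1 by group]; exact C.K.one_mem)

theorem isConj_of_mem {x : G} (hx : x ∈ C.W) (hx' : x ∉ C.K) : IsConj u x :=
  C.conjU x hx' ((C.mem_W x).1 hx)

theorem card_W : Nat.card C.W = 4 * Nat.card C.K := by
  have h3 := (C.K.subgroupOf C.W).card_mul_index
  rw [show (C.K.subgroupOf C.W).index = 4 from C.rel,
    Nat.card_congr (Subgroup.subgroupOfEquivOfLe C.le_W).toEquiv] at h3
  omega

theorem exists_v (P : Subgroup G) (hPW : P ≤ C.W) (hP : C.W ≤ P ⊔ C.K) :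
    ∃ v ∈ P, v ∉ C.K ∧ u * v ∉ C.K ∧ u⁻¹ * v ∉ C.K := by
  haveI := C.normal
  by_contra hno
  push Not at hno
  have hcase : ∀ v ∈ P, v ∈ C.K ∨ u⁻¹ * v ∈ C.K := by
    intro v hv
    by_cases h1 : v ∈ C.K
    · exact Or.inl h1
    by_cases h2 : u * v ∈ C.K
    · right
      have := C.K.mul_mem (C.K.inv_mem C.sq_mem) h2
      rwa [show (u * u)⁻¹ * (u * v) = u⁻¹ * v by group] at this
    · exact Or.inr (hno v hv h1 h2)
  have hsur : Function.Surjective (fun b : Bool => if b then
      (((⟨u, C.u_mem_W⟩ : C.W)) : C.W ⧸ C.K.subgroupOf C.W) else 1) := by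
    intro q
    obtain ⟨⟨w, hw⟩, rfl⟩ := QuotientGroup.mk_surjective q
    obtain ⟨p, hp, k, hk, rfl⟩ := Subgroup.mem_sup_of_normal_right.1 (hP hw)
    rcases hcase p hp with h | h
    · exact ⟨false, ((QuotientGroup.eq_one_iff _).2 (Subgroup.mem_subgroupOf.2 (C.K.mul_mem h hk))).symm⟩
    · refine ⟨true, QuotientGroup.eq.2 (Subgroup.mem_subgroupOf.2 ?_)⟩
      show u⁻¹ * (p * k) ∈ C.K
      rw [← mul_assoc]; exact C.K.mul_mem h hk
  have := Nat.card_le_card_of_surjective _ hsur
  rw [← Subgroup.index_eq_card, show (C.K.subgroupOf C.W).index = 4 from C.rel] at this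
  simp at this

/-- The case of an involution. -/
theorem bot_of_sq (hu : u ≠ 1) (h2 : u * u = 1) : C.K = ⊥ := by
  classical
  haveI := C.normal
  have hsq : ∀ x ∈ C.W, x ∉ C.K → x * x = 1 := fun x hx hx' => by
    obtain ⟨g, rfl⟩ := isConj_iff.1 (C.isConj_of_mem hx hx')
    calc g * u * g⁻¹ * (g * u * g⁻¹) = g * (u * u) * g⁻¹ := by group
      _ = 1 := by rw [h2, mul_one, mul_inv_cancel]
  obtain ⟨v, hvW, hvK, huvK, -⟩ := C.exists_v C.W le_rfl le_sup_left
  have hinv : ∀ x ∈ C.W, x ∉ C.K → ∀ k ∈ C.K, x * k * x = k⁻¹ := fun x hx hx' k hk => by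
    have h := hsq (x * k) (C.W.mul_mem hx (C.le_W hk)) fun h => hx' (by
      have := C.K.mul_mem h (C.K.inv_mem hk); rwa [mul_inv_cancel_right] at this)
    exact eq_inv_of_mul_eq_one_left (by rw [← h]; group)
  have huu : u⁻¹ = u := inv_eq_of_mul_eq_one_right h2
  have hvv : v⁻¹ = v := inv_eq_of_mul_eq_one_right (hsq v hvW hvK)
  have hcomm : u * v = v * u := by
    have h := inv_eq_of_mul_eq_one_right (hsq _ (C.W.mul_mem C.u_mem_W hvW) huvK)
    rw [mul_inv_rev, hvv, huu] at h
    exact h.symm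
  have hKu : ∀ k ∈ C.K, u * k = k * u := by
    intro k hk
    have e1 := hinv u C.u_mem_W C.u_not k hk
    have e2 := hinv v hvW hvK k hk
    have e3 := hinv (u * v) (C.W.mul_mem C.u_mem_W hvW) huvK k hk
    have e4 : u * v * k * (u * v) = k := by
      refine (congrArg (fun t => u * v * k * t) hcomm).trans ?_
      calc u * v * k * (v * u) = u * (v * k * v) * u := by group
        _ = u * k⁻¹ * u := by rw [e2]
        _ = k := by rw [hinv u C.u_mem_W C.u_not k⁻¹ (C.K.inv_mem hk), inv_inv]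
    rw [e3] at e4
    rw [e4] at e1
    calc u * k = u * k * u * u⁻¹ := by group
      _ = k * u := by rw [e1, huu]
  have hle : C.W ≤ Subgroup.centralizer ({u} : Set G) := by
    intro x hx
    rw [Subgroup.mem_centralizer_singleton_iff]
    by_cases h1 : x ∈ C.K
    · exact (hKu x h1).symm
    by_cases h3 : u * x ∈ C.K
    · have h := hKu _ h3
      calc x * u = u⁻¹ * (u * x * u) := by group
        _ = u⁻¹ * (u * (u * x)) := by rw [h]
        _ = u * x := by group
    · have h := inv_eq_of_mul_eq_one_right (hsq _ (C.W.mul_mem C.u_mem_W hx) h3)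
      rw [mul_inv_rev, inv_eq_of_mul_eq_one_right (hsq x hx h1), huu] at h
      exact h
  have := Subgroup.card_le_of_le hle
  rw [C.card_W, C.cent] at this
  exact Subgroup.card_eq_one.1 (by have := Nat.card_pos (α := C.K); omega)

/-- The case of an element of order four. -/
theorem four_case (hu : u ≠ 1) (h2 : u * u ≠ 1) :
    orderOf u = 4 ∧ IsMulCommutative (Cfsg.oddCore G) ∧ Cfsg.oddCore G ≤ C.K ∧
      u * u ∉ Cfsg.oddCore G ∧
      ∀ k ∈ C.K, k ∈ Cfsg.oddCore G ∨ (u * u) * k ∈ Cfsg.oddCore G := by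
  classical
  haveI := C.normal
  haveI : Fact (Nat.Prime 2) := ⟨Nat.prime_two⟩
  have h4 : orderOf u = 4 := by
    have hd := Subgroup.orderOf_dvd_natCard _
      (Subgroup.mem_centralizer_singleton_iff.2 rfl : u ∈ Subgroup.centralizer ({u} : Set G))
    rw [C.cent, show (4 : ℕ) = 2 ^ 2 from rfl, Nat.dvd_prime_pow Nat.prime_two] at hd
    obtain ⟨i, hi, he⟩ := hd
    interval_cases i
    · exact absurd (orderOf_eq_one_iff.1 he) hu
    · exact absurd (by rw [← pow_two]; exact (show 2 = orderOf u by omega) ▸ pow_orderOf_eq_one u) h2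
    · exact he
  have hord : ∀ x ∈ C.W, x ∉ C.K → orderOf x = 4 := fun x hx hx' => by
    obtain ⟨g, rfl⟩ := isConj_iff.1 (C.isConj_of_mem hx hx')
    rw [← h4]
    exact orderOf_injective (MulAut.conj g).toMonoidHom (MulAut.conj g).injective u
  have hcent : ∀ x ∈ C.W, x ∉ C.K →
      Subgroup.centralizer ({x} : Set G) = Subgroup.zpowers x := fun x hx hx' => by
    refine (Subgroup.eq_of_le_of_card_ge
      (Subgroup.zpowers_le.2 (Subgroup.mem_centralizer_singleton_iff.2 rfl)) ?_).symm
    rw [card_centralizer_conj (C.isConj_of_mem hx hx'), C.cent, Nat.card_zpowers, hord x hx hx']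
  have hfour : ∀ x ∈ C.W, x ∉ C.K → ∀ y, x * y = y * x →
      y = 1 ∨ y = x ∨ y = x * x ∨ y = x⁻¹ := by
    intro x hx hx' y hy
    have hy' : y ∈ Subgroup.zpowers x := by
      rw [← hcent x hx hx']; exact Subgroup.mem_centralizer_singleton_iff.2 hy.symm
    rw [mem_zpowers_iff_mem_range_orderOf, hord x hx hx', Finset.mem_image] at hy'
    obtain ⟨i, hi, rfl⟩ := hy'
    rw [Finset.mem_range] at hi
    have h4x : x ^ 4 = 1 := hord x hx hx' ▸ pow_orderOf_eq_one x
    interval_cases i
    · exact Or.inl (pow_zero x)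
    · exact Or.inr (Or.inl (pow_one x))
    · exact Or.inr (Or.inr (Or.inl (pow_two x)))
    · refine Or.inr (Or.inr (Or.inr (eq_inv_of_mul_eq_one_left ?_)))
      rw [← pow_succ, h4x]
  -- a Sylow 2-subgroup of `W`
  let u' : C.W := ⟨u, C.u_mem_W⟩
  have hzp : IsPGroup 2 (Subgroup.zpowers u') := by
    refine IsPGroup.of_card (n := 2) ?_
    rw [Nat.card_zpowers, ← Subgroup.orderOf_coe, h4]
    rfl
  obtain ⟨P₀, hP₀⟩ := hzp.exists_le_sylow
  let P : Subgroup G := (P₀ : Subgroup C.W).map C.W.subtype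
  have hP2 : IsPGroup 2 P := P₀.isPGroup'.map _
  have huP : u ∈ P := ⟨u', hP₀ (Subgroup.mem_zpowers u'), rfl⟩
  have hPW : P ≤ C.W := Subgroup.map_subtype_le _
  have hPodd : ¬ 2 ∣ P.relIndex C.W := by
    rw [Subgroup.relIndex, Subgroup.subgroupOf,
      Subgroup.comap_map_eq_self_of_injective C.W.subtype_injective]
    exact P₀.not_dvd_index
  have hsup : C.W ≤ P ⊔ C.K := by
    have hle : P ⊔ C.K ≤ C.W := sup_le hPW C.le_W
    have h1 : (P ⊔ C.K).relIndex C.W ∣ P.relIndex C.W :=
      Subgroup.relIndex_dvd_of_le_left C.W le_sup_left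
    have h2 : (P ⊔ C.K).relIndex C.W ∣ 4 :=
      C.rel ▸ Subgroup.relIndex_dvd_of_le_left C.W le_sup_right
    have h3 : ¬ 2 ∣ (P ⊔ C.K).relIndex C.W := fun h => hPodd (h.trans h1)
    rw [show (4 : ℕ) = 2 ^ 2 from rfl, Nat.dvd_prime_pow Nat.prime_two] at h2
    obtain ⟨i, hi, he⟩ := h2
    refine Subgroup.relIndex_eq_one.1 ?_
    interval_cases i
    · rw [he]; rfl
    · exact absurd (by rw [he]; norm_num) h3
    · exact absurd (by rw [he]; norm_num) h3
  obtain ⟨v, hvP, hvK, huvK, hu'vK⟩ := C.exists_v P hPW hsup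
  set z := u * u with hz
  have hz1 : z ≠ 1 := h2
  have hzK : z ∈ C.K := C.sq_mem
  have hzz : z * z = 1 := by
    rw [hz, ← mul_assoc, show u * u * u * u = u ^ 4 by simp [pow_succ], ← h4, pow_orderOf_eq_one]
  have hzord : orderOf z = 2 := orderOf_eq_prime (by rw [pow_two, hzz]) hz1
  have hzc : ∀ p ∈ P, z * p = p * z := by
    haveI : Nontrivial P := ⟨⟨⟨u, huP⟩, 1, fun e => hu (congrArg Subtype.val e)⟩⟩
    haveI := hP2.center_nontrivial
    obtain ⟨⟨t, htc⟩, ht1⟩ := exists_ne (1 : Subgroup.center P)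
    have hcomm : ∀ p ∈ P, (t : G) * p = p * t := fun p hp =>
      (congrArg Subtype.val (Subgroup.mem_center_iff.1 htc ⟨p, hp⟩)).symm
    rcases hfour u C.u_mem_W C.u_not t (hcomm u huP).symm with e | e | e | e
    · exact absurd (Subtype.ext (Subtype.ext e)) ht1
    · exfalso
      rcases hfour u C.u_mem_W C.u_not v (by rw [← e]; exact hcomm v hvP) with h | h | h | h
      · exact hvK (h ▸ C.K.one_mem)
      · exact hu'vK (by rw [h, inv_mul_cancel]; exact C.K.one_mem)
      · exact hvK (h ▸ hzK)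
      · exact huvK (by rw [h, mul_inv_cancel]; exact C.K.one_mem)
    · intro p hp
      have := hcomm p hp
      rw [e] at this
      exact this
    · exfalso
      have hc : u⁻¹ * v = v * u⁻¹ := by rw [← e]; exact hcomm v hvP
      have hc' : u * v = v * u := by
        calc u * v = u * (v * u⁻¹) * u := by group
          _ = u * (u⁻¹ * v) * u := by rw [hc]
          _ = v * u := by group
      rcases hfour u C.u_mem_W C.u_not v hc' with h | h | h | h
      · exact hvK (h ▸ C.K.one_mem)
      · exact hu'vK (by rw [h, inv_mul_cancel]; exact C.K.one_mem)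
      · exact hvK (h ▸ hzK)
      · exact huvK (by rw [h, mul_inv_cancel]; exact C.K.one_mem)
  have hxz : ∀ x ∈ P, x ∉ C.K → x * x = z := fun x hx hx' => by
    rcases hfour x (hPW hx) hx' z (hzc x hx).symm with e | e | e | e
    · exact absurd e hz1
    · exact absurd (e ▸ hzK) hx'
    · exact e.symm
    · exact absurd (inv_inv x ▸ C.K.inv_mem (e ▸ hzK)) hx'
  have huvP : u * v ∈ P := P.mul_mem huP hvP
  have hR : ∀ r ∈ P, r ∈ C.K → r = 1 ∨ r = z := by
    intro r hr hrK
    have hflip : ∀ x ∈ P, x ∉ C.K → r * x = x * r⁻¹ := fun x hx hx' => by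
      have h := hxz (x * r) (P.mul_mem hx hr) fun h => hx' (by
        have := C.K.mul_mem h (C.K.inv_mem hrK); rwa [mul_inv_cancel_right] at this)
      rw [← hxz x hx hx'] at h
      calc r * x = x⁻¹ * (x * r * (x * r)) * r⁻¹ := by group
        _ = x⁻¹ * (x * x) * r⁻¹ := by rw [h]
        _ = x * r⁻¹ := by group
    have e1 := hflip u huP C.u_not
    have e2 := hflip v hvP hvK
    have e3 := hflip (u * v) huvP huvK
    have e4 : r * (u * v) = u * v * r := by
      calc r * (u * v) = (r * u) * v := by group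
        _ = u * (r⁻¹ * v) := by rw [e1]; group
        _ = u * (v * r) := by
          congr 1
          calc r⁻¹ * v = r⁻¹ * (v * r⁻¹) * r := by group
            _ = r⁻¹ * (r * v) * r := by rw [e2]
            _ = v * r := by group
        _ = u * v * r := by group
    rw [e3] at e4
    have e5 : r⁻¹ = r := mul_left_cancel e4
    rw [e5] at e1
    rcases hfour u C.u_mem_W C.u_not r e1.symm with e | e | e | e
    · exact Or.inl e
    · exact absurd (e ▸ hrK) C.u_not
    · exact Or.inr e
    · rw [e] at hrK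
      exact absurd (C.K.inv_mem_iff.1 hrK) C.u_not
  -- the 2-part of `K`
  have hPK : Nat.card P = 8 := by
    have h1 : C.K.relIndex P = 4 := by
      rw [← Subgroup.relIndex_sup_right, le_antisymm (sup_le hPW C.le_W) hsup, C.rel]
    have h3 := (C.K.subgroupOf P).card_mul_index
    rw [show (C.K.subgroupOf P).index = 4 from h1] at h3
    have h5 : Nat.card (C.K.subgroupOf P) = 2 := by
      rw [Nat.card_eq_two_iff]
      refine ⟨1, ⟨⟨z, P.mul_mem huP huP⟩, Subgroup.mem_subgroupOf.2 hzK⟩,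
        fun e => hz1 (congrArg (fun r : C.K.subgroupOf P => ((r : P) : G)) e).symm, ?_⟩
      rw [Set.eq_univ_iff_forall]
      rintro ⟨⟨r, hr⟩, hrK⟩
      rcases hR r hr (Subgroup.mem_subgroupOf.1 hrK) with rfl | rfl
      · exact Or.inl rfl
      · exact Or.inr rfl
    rw [h5] at h3
    omega
  obtain ⟨m, hm, hK2⟩ : ∃ m, ¬ 2 ∣ m ∧ Nat.card C.K = 2 * m := by
    refine ⟨P.relIndex C.W, hPodd, ?_⟩
    have h3 := (P.subgroupOf C.W).card_mul_index
    rw [Nat.card_congr (Subgroup.subgroupOfEquivOfLe hPW).toEquiv, hPK, C.card_W] at h3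
    change 8 * P.relIndex C.W = _ at h3
    omega
  obtain ⟨P₁⟩ : Nonempty (Sylow 2 C.K) := inferInstance
  have hP₁ : Nat.card (P₁ : Subgroup C.K) = 2 := by
    rw [P₁.card_eq_multiplicity, hK2, Nat.factorization_mul two_ne_zero (fun e : m = 0 => hm (e ▸ dvd_zero 2)),
      Finsupp.add_apply, Nat.prime_two.factorization_self, Nat.factorization_eq_zero_of_not_dvd hm]
    rfl
  obtain ⟨M, hM, hMi, -⟩ := CfsgLib.Fusion.thompson_transfer P₁ (Q := ⊥) bot_le
    (by rw [Subgroup.relIndex_bot_left, hP₁]) (u := (⟨z, hzK⟩ : C.K))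
    (Subtype.ext (by simpa [pow_two] using hzz)) (fun g hg => by
      rw [Subgroup.mem_bot, conj_eq_one_iff] at hg
      exact hz1 (congrArg Subtype.val hg))
  haveI := hM
  have hMcard : Odd (Nat.card M) := by
    have h := M.card_mul_index
    rw [hMi, hK2] at h
    rw [show Nat.card M = m by omega]
    exact Nat.not_even_iff_odd.1 fun h => hm h.two_dvd
  have hMmem : ∀ k : C.K, k ∈ M ↔ Odd (orderOf (k : G)) := by
    intro k
    rw [Subgroup.orderOf_coe]
    refine ⟨fun h => odd_orderOf_of_mem hMcard h, fun h => ?_⟩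
    obtain ⟨j, hj⟩ := h
    have h2k : ∀ y : C.K, y * y ∈ M := fun y => Subgroup.mul_self_mem_of_index_two hMi y
    have e : k = (k ^ (2 * j))⁻¹ * k ^ orderOf k * 1 := by
      rw [hj, mul_one, pow_succ, inv_mul_cancel_left]
    rw [e, pow_orderOf_eq_one, mul_one, mul_one]
    refine M.inv_mem ?_
    rw [two_mul, pow_add]
    exact h2k _
  set O := Cfsg.oddCore G with hO
  have hOodd : Odd (Nat.card O) := coprime_oddCore G
  have hOle : O ≤ C.K := by
    haveI := (psl_of_sixty (H := G ⧸ C.K) (by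
      have : commutator G = ⊤ := by
        rw [eq_top_iff]
        intro x _
        by_contra hx
        exact hx (C.top_comm x)
      rw [commutator_def, ← Subgroup.map_top_of_surjective _ (QuotientGroup.mk'_surjective C.K),
        ← Subgroup.map_commutator, ← commutator_def, this]) C.card).2
    rcases IsSimpleGroup.eq_bot_or_eq_top_of_normal (O.map (QuotientGroup.mk' C.K))
      (Subgroup.Normal.map inferInstance _ (QuotientGroup.mk'_surjective C.K)) with e | e
    · rw [Subgroup.map_eq_bot_iff, QuotientGroup.ker_mk'] at e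
      exact e
    · have hd := Subgroup.card_map_dvd (H := O) (QuotientGroup.mk' C.K)
      rw [e, Subgroup.card_top, C.card] at hd
      exact absurd (hOodd.of_dvd_nat hd) (by decide)
  have hOmem : ∀ k : G, (hk : k ∈ C.K) → (k ∈ O ↔ (⟨k, hk⟩ : C.K) ∈ M) := by
    intro k hk
    refine ⟨fun h => (hMmem _).2 (odd_orderOf_of_mem hOodd h), fun h => ?_⟩
    have hN : (M.map C.K.subtype).Normal := by
      refine ⟨fun x hx g => ?_⟩
      obtain ⟨y, hy, rfl⟩ := hx
      refine ⟨⟨g * (y : G) * g⁻¹, C.normal.conj_mem _ y.2 g⟩, (hMmem _).2 ?_, rfl⟩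
      have := (hMmem y).1 hy
      rwa [← orderOf_injective (MulAut.conj g).toMonoidHom (MulAut.conj g).injective] at this
    exact le_oddCore hN (by rw [Subgroup.card_map_of_injective C.K.subtype_injective]; exact hMcard)
      ⟨⟨k, hk⟩, h, rfl⟩
  have hzO : z ∉ O := fun h => by
    have := odd_orderOf_of_mem hOodd h
    rw [hzord] at this
    exact absurd this (by decide)
  refine ⟨h4, ?_, hOle, hzO, fun k hk => ?_⟩
  · -- `z` inverts `O`
    have hOn : ∀ x g : G, g ∈ O → x * g * x⁻¹ ∈ O := fun x g hg =>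
      (inferInstance : O.Normal).conj_mem g hg x
    have hfix : ∀ g ∈ O, z * g = g * z → g = 1 := by
      intro g hg hgz
      let D : Subgroup G := O ⊓ Subgroup.centralizer ({z} : Set G)
      have hD : ∀ x ∈ P, x ∉ C.K → ∀ c ∈ D, x * c * x⁻¹ = c⁻¹ := by
        intro x hx hx'
        refine inverts x (fun c hc => ⟨hOn x c hc.1, Subgroup.mem_centralizer_singleton_iff.2 ?_⟩)
          (fun c hc => by
            rw [hxz x hx hx']
            exact (Subgroup.mem_centralizer_singleton_iff.1 hc.2).symm)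
          (fun c hc he => ?_)
        · have hcz := Subgroup.mem_centralizer_singleton_iff.1 hc.2
          calc x * c * x⁻¹ * z = x * c * (x⁻¹ * z) := by group
            _ = x * c * (z * x⁻¹) := by
              congr 1
              have hzx := hzc x hx
              calc x⁻¹ * z = x⁻¹ * (z * x) * x⁻¹ := by group
                _ = x⁻¹ * (x * z) * x⁻¹ := by rw [hzx]
                _ = z * x⁻¹ := by group
            _ = x * (c * z) * x⁻¹ := by group
            _ = (x * z) * c * x⁻¹ := by rw [hcz]; group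
            _ = (z * x) * c * x⁻¹ := by rw [hzc x hx]
            _ = z * (x * c * x⁻¹) := by group
        · rcases hfour x (hPW hx) hx' c he with e | e | e | e
          · exact e
          · exact absurd (hOle (e ▸ hc.1)) hx'
          · exact absurd (by rw [← hxz x hx hx', ← e]; exact hc.1) hzO
          · exact absurd (hOle (inv_inv x ▸ O.inv_mem (e ▸ hc.1))) hx'
      have hgD : g ∈ D := ⟨hg, Subgroup.mem_centralizer_singleton_iff.2 hgz.symm⟩
      have e1 := hD u huP C.u_not
      have e2 := hD v hvP hvK g hgD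
      have e3 := hD (u * v) huvP huvK g hgD
      rw [show u * v * g * (u * v)⁻¹ = u * (v * g * v⁻¹) * u⁻¹ by group, e2,
        e1 g⁻¹ (D.inv_mem hgD), inv_inv] at e3
      have hsq : g ^ 2 = 1 := by
        rw [pow_two]
        nth_rewrite 1 [e3]
        exact inv_mul_cancel g
      have hd := orderOf_dvd_of_pow_eq_one hsq
      have hod := odd_orderOf_of_mem hOodd hg
      rcases (Nat.dvd_prime Nat.prime_two).1 hd with h | h
      · exact orderOf_eq_one_iff.1 h
      · rw [h] at hod; exact absurd hod (by decide)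
    have hinv : ∀ g ∈ O, z * g * z⁻¹ = g⁻¹ :=
      inverts z (fun g hg => hOn z g hg) (fun g _ => by rw [hzz, one_mul, mul_one]) hfix
    refine ⟨⟨fun a b => Subtype.ext ?_⟩⟩
    have h := hinv _ (O.mul_mem a.2 b.2)
    rw [show z * ((a : G) * b) * z⁻¹ = (z * a * z⁻¹) * (z * b * z⁻¹) by group, hinv a a.2,
      hinv b b.2, mul_inv_rev] at h
    calc (a : G) * b = ((b : G)⁻¹ * (a : G)⁻¹)⁻¹ := by group
      _ = ((a : G)⁻¹ * (b : G)⁻¹)⁻¹ := by rw [h]
      _ = b * a := by group
  · by_cases h : (⟨k, hk⟩ : C.K) ∈ M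
    · exact Or.inl ((hOmem k hk).2 h)
    right
    refine (hOmem _ (C.K.mul_mem hzK hk)).2 ?_
    have hz' : (⟨z, hzK⟩ : C.K) ∉ M := fun h' => hzO ((hOmem z hzK).2 h')
    exact (Subgroup.mul_mem_iff_of_index_two hMi (a := ⟨z, hzK⟩) (b := ⟨k, hk⟩)).2
      ⟨fun a => absurd a hz', fun b => absurd b h⟩

end Cover

end CfsgLib.Char.ConstDegree
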