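import Mathlib

/-!
# Two-groups with a class of involutions having centralizers of order at most four
-/

set_option autoImplicit false

namespace CfsgLib.Char.ConstDegree

open scoped commutatorElement

variable {S : Type*} [Group S] [Finite S]

theorem zpow_two_mul_aux (a : S) (j : ℤ) : a ^ (j + j) = (a * a) ^ j := by
  rw [← two_mul, zpow_mul, zpow_two]

theorem comm_of_zpowers_sup (hS : IsPGroup 2 S) (a : S)
    (h : Subgroup.zpowers a ⊔ commutator S = ⊤) : ∀ x y : S, x * y = y * x := by
  haveI : Fact (Nat.Prime 2) := ⟨Nat.prime_two⟩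
  haveI := hS.isNilpotent
  have htop : Subgroup.zpowers a = ⊤ := by
    by_contra hne
    obtain ⟨M, hM, hle⟩ := (eq_top_or_exists_le_coatom (Subgroup.zpowers a)).resolve_left hne
    haveI : M.Normal :=
      Subgroup.NormalizerCondition.normal_of_coatom M Group.normalizerCondition_of_isNilpotent hM
    have hc : commutator S ≤ M := by
      obtain ⟨n, hn⟩ := hS.index M
      have hsimple : IsSimpleGroup (S ⧸ M) := by
        haveI : Nontrivial (S ⧸ M) := QuotientGroup.nontrivial_iff.2 hM.1
        refine ⟨fun N _ => ?_⟩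
        rcases eq_or_ne N ⊥ with hN | hN
        · exact Or.inl hN
        right
        have h1 : M < N.comap (QuotientGroup.mk' M) := by
          refine lt_of_le_of_ne (fun x hx => ?_) fun e => hN ?_
          · rw [Subgroup.mem_comap, show QuotientGroup.mk' M x = 1 from
              (QuotientGroup.eq_one_iff x).2 hx]
            exact N.one_mem
          · rw [← Subgroup.map_comap_eq_self_of_surjective (QuotientGroup.mk'_surjective M) N, ← e]
            exact QuotientGroup.map_mk'_self M
        have h2 := hM.2 _ h1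
        rw [← Subgroup.map_comap_eq_self_of_surjective (QuotientGroup.mk'_surjective M) N, h2,
          Subgroup.map_top_of_surjective _ (QuotientGroup.mk'_surjective M)]
      haveI := (hS.to_quotient M).isNilpotent
      have hcomm : commutator (S ⧸ M) = ⊥ := by
        rcases hsimple.eq_bot_or_eq_top_of_normal _ (Subgroup.commutator_normal ⊤ ⊤) with e | e
        · exact e
        · haveI : Nontrivial (S ⧸ M) := QuotientGroup.nontrivial_iff.2 hM.1
          exact absurd e (Group.IsSolvable.commutator_lt_top_of_nontrivial (S ⧸ M)).ne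
      rw [← QuotientGroup.ker_mk' M, ← Subgroup.map_eq_bot_iff, commutator_def,
        Subgroup.map_commutator, Subgroup.map_top_of_surjective _ (QuotientGroup.mk'_surjective M)]
      exact hcomm
    exact hM.1 (top_le_iff.1 (h ▸ sup_le hle hc))
  intro x y
  obtain ⟨i, rfl⟩ := (htop ▸ Subgroup.mem_top x : x ∈ Subgroup.zpowers a)
  obtain ⟨j, rfl⟩ := (htop ▸ Subgroup.mem_top y : y ∈ Subgroup.zpowers a)
  exact zpow_mul_comm a i j

theorem commutator_index (hS : IsPGroup 2 S) (hna : ¬ ∀ x y : S, x * y = y * x) :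
    4 ≤ (commutator S).index := by
  by_contra hlt
  apply hna
  haveI : Fact (Nat.Prime 2) := ⟨Nat.prime_two⟩
  obtain ⟨n, hn⟩ := hS.index (commutator S)
  have hn1 : n ≤ 1 := by
    by_contra h
    have : 2 ^ 2 ≤ 2 ^ n := Nat.pow_le_pow_right two_pos (by omega)
    rw [hn] at hlt
    omega
  haveI : IsCyclic (S ⧸ commutator S) := by
    rcases Nat.le_one_iff_eq_zero_or_eq_one.1 hn1 with rfl | rfl
    · haveI : Subsingleton (S ⧸ commutator S) :=
        (Nat.card_eq_one_iff_unique.1 (by rw [← Subgroup.index_eq_card, hn, pow_zero])).1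
      infer_instance
    · exact isCyclic_of_prime_card (p := 2) (by rw [← Subgroup.index_eq_card, hn, pow_one])
  obtain ⟨q, hq⟩ := IsCyclic.exists_generator (α := S ⧸ commutator S)
  obtain ⟨a, rfl⟩ := QuotientGroup.mk'_surjective _ q
  refine comm_of_zpowers_sup hS a (eq_top_iff.2 fun x _ => ?_)
  obtain ⟨k, hk⟩ := hq (QuotientGroup.mk' _ x)
  have : (a ^ k)⁻¹ * x ∈ commutator S := by
    refine QuotientGroup.eq.1 ?_
    simpa using hk
  rw [show x = a ^ k * ((a ^ k)⁻¹ * x) by group]
  exact Subgroup.mul_mem_sup (Subgroup.zpow_mem_zpowers a k) this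

/-- A small centralizer forces the class to be a coset of the commutator subgroup. -/
theorem class_eq_coset (hS : IsPGroup 2 S) (hna : ¬ ∀ x y : S, x * y = y * x) (w : S)
    (hw : Nat.card (Subgroup.centralizer ({w} : Set S)) ≤ 4) :
    (commutator S).index = 4 ∧ ∀ d ∈ commutator S, IsConj w (w * d) := by
  classical
  haveI : Fact (Nat.Prime 2) := ⟨Nat.prime_two⟩
  set D := commutator S with hD
  let f : S ⧸ Subgroup.centralizer ({w} : Set S) → D :=
    Quotient.lift (fun s => ⟨w⁻¹ * (s * w * s⁻¹), by
      rw [show w⁻¹ * (s * w * s⁻¹) = ⁅w⁻¹, s⁆ by group, hD, commutator_def]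
      exact Subgroup.commutator_mem_commutator (Subgroup.mem_top _) (Subgroup.mem_top _)⟩) (by
      intro a b hab
      have h := Subgroup.mem_centralizer_singleton_iff.1 (QuotientGroup.leftRel_apply.1 hab)
      refine Subtype.ext (congrArg (fun t => w⁻¹ * t) ?_)
      calc a * w * a⁻¹ = a * (w * (a⁻¹ * b)) * b⁻¹ := by group
        _ = a * (a⁻¹ * b * w) * b⁻¹ := by rw [h]
        _ = b * w * b⁻¹ := by group)
  have hf : Function.Injective f := by
    intro x y h
    obtain ⟨a, rfl⟩ := QuotientGroup.mk_surjective x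
    obtain ⟨b, rfl⟩ := QuotientGroup.mk_surjective y
    have h' : a * w * a⁻¹ = b * w * b⁻¹ := mul_left_cancel (congrArg Subtype.val h)
    refine QuotientGroup.eq.2 (Subgroup.mem_centralizer_singleton_iff.2 ?_)
    calc a⁻¹ * b * w = a⁻¹ * (b * w * b⁻¹) * b := by group
      _ = a⁻¹ * (a * w * a⁻¹) * b := by rw [h']
      _ = w * (a⁻¹ * b) := by group
  have h1 : (Subgroup.centralizer ({w} : Set S)).index ≤ Nat.card D := by
    rw [Subgroup.index_eq_card]; exact Nat.card_le_card_of_injective f hf
  have h2 := (Subgroup.centralizer ({w} : Set S)).card_mul_index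
  have h3 := D.card_mul_index
  have h4 := commutator_index hS hna
  rw [← hD] at h4
  have h5 : Nat.card (Subgroup.centralizer ({w} : Set S)) * (Subgroup.centralizer ({w} : Set S)).index
      ≤ 4 * Nat.card D := Nat.mul_le_mul hw h1
  have h6 : Nat.card D * 4 ≤ Nat.card D * D.index := Nat.mul_le_mul le_rfl h4
  have hDpos : 0 < Nat.card D := Nat.card_pos
  have hidx : D.index = 4 := Nat.eq_of_mul_eq_mul_left hDpos (by omega)
  refine ⟨hidx, fun d hd => ?_⟩
  have hcard : Nat.card (S ⧸ Subgroup.centralizer ({w} : Set S)) = Nat.card D := by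
    rw [← Subgroup.index_eq_card]
    refine le_antisymm h1 ?_
    have h7 : Nat.card D * 4 ≤ (Subgroup.centralizer ({w} : Set S)).index * 4 := by
      have h8 : Nat.card (Subgroup.centralizer ({w} : Set S)) *
          (Subgroup.centralizer ({w} : Set S)).index ≤
          4 * (Subgroup.centralizer ({w} : Set S)).index := Nat.mul_le_mul hw le_rfl
      omega
    omega
  obtain ⟨x, hx⟩ := ((Nat.bijective_iff_injective_and_card f).2 ⟨hf, hcard⟩).2 ⟨d, hd⟩
  obtain ⟨s, rfl⟩ := QuotientGroup.mk_surjective x
  refine isConj_iff.2 ⟨s, ?_⟩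
  have h' : w⁻¹ * (s * w * s⁻¹) = d := congrArg Subtype.val hx
  rw [← h']
  group

/-- There is a subgroup of index two avoiding the class. -/
theorem exists_avoiding (hS : IsPGroup 2 S) (P : S → Prop) {u : S} (hu : P u)
    (hbig : 4 < Nat.card S) (hsq : ∀ w, P w → w * w = 1)
    (hcen : ∀ w, P w → Nat.card (Subgroup.centralizer ({w} : Set S)) ≤ 4)
    (hconj : ∀ w x, P w → IsConj w x → P x) :
    ∃ Q : Subgroup S, Q.index = 2 ∧ ∀ w, P w → w ∉ Q := by
  classical
  have hna : ¬ ∀ x y : S, x * y = y * x := fun h => by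
    have := hcen u hu
    rw [show Subgroup.centralizer ({u} : Set S) = ⊤ from eq_top_iff.2 fun x _ =>
      Subgroup.mem_centralizer_singleton_iff.2 (h x u), Subgroup.card_top] at this
    omega
  set D := commutator S with hD
  have hidx : D.index = 4 := (class_eq_coset hS hna u (hcen u hu)).1
  have hcoset : ∀ w, P w → ∀ d ∈ D, P (w * d) := fun w hw d hd =>
    hconj w _ hw ((class_eq_coset hS hna w (hcen w hw)).2 d hd)
  have hout : ∀ w, P w → w ∉ D := fun w hw hwD => by
    have h1 : P 1 := by
      have := hcoset w hw w⁻¹ (D.inv_mem hwD)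
      rwa [mul_inv_cancel] at this
    have h2 := hcen 1 h1
    rw [show Subgroup.centralizer ({(1 : S)} : Set S) = ⊤ from eq_top_iff.2 fun x _ =>
      Subgroup.mem_centralizer_singleton_iff.2 (by rw [mul_one, one_mul]), Subgroup.card_top] at h2
    omega
  have hinv : ∀ w, P w → ∀ d ∈ D, w * d * w = d⁻¹ := fun w hw d hd => by
    have h := hsq _ (hcoset w hw d hd)
    exact eq_inv_of_mul_eq_one_left (by rw [← h]; group)
  obtain ⟨a, haD, haP⟩ : ∃ a, a ∉ D ∧ ¬ P a := by
    by_contra hall
    push Not at hall
    obtain ⟨b, hbD, hubD⟩ : ∃ b, b ∉ D ∧ u⁻¹ * b ∉ D := by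
      by_contra hno
      push Not at hno
      have hle : Nat.card (S ⧸ D) ≤ 2 := by
        have hsur : Function.Surjective (fun c : Bool => if c then ((u : S) : S ⧸ D) else 1) := by
          intro q
          obtain ⟨x, rfl⟩ := QuotientGroup.mk_surjective q
          by_cases hx : x ∈ D
          · exact ⟨false, by simpa using ((QuotientGroup.eq_one_iff x).2 hx).symm⟩
          · exact ⟨true, by simpa using QuotientGroup.eq.2 (hno x hx)⟩
        simpa using Nat.card_le_card_of_surjective _ hsur
      rw [← Subgroup.index_eq_card, hidx] at hle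
      omega
    have hus : u⁻¹ = u := inv_eq_of_mul_eq_one_right (hsq u hu)
    rw [hus] at hubD
    apply hna
    have hsq2 : ∀ x : S, x * x = 1 := by
      intro x
      by_cases hx : x ∈ D
      · have h1 := hinv u hu x hx
        have h2 := hinv b (hall b hbD) x hx
        have h3 := hinv (u * b) (hall _ hubD) x hx
        have hus' := hsq u hu
        have hbs := hsq b (hall b hbD)
        have hbu : u * b = b * u := by
          have h := hsq _ (hall _ hubD)
          have hbs' : b⁻¹ = b := inv_eq_of_mul_eq_one_right hbs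
          rw [← inv_eq_of_mul_eq_one_right h, mul_inv_rev, hbs', hus]
        have h4 : (u * b) * x * (u * b) = x := by
          calc (u * b) * x * (u * b) = u * (b * x * b) * u := by
                refine (congrArg (fun t => u * b * x * t) hbu).trans ?_; group
            _ = u * x⁻¹ * u := by rw [h2]
            _ = x := by rw [hinv u hu x⁻¹ (D.inv_mem hx), inv_inv]
        rw [h3] at h4
        nth_rewrite 1 [← h4]
        exact inv_mul_cancel x
      · exact hsq x (hall x hx)
    intro x y
    have h := hsq2 (x * y)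
    calc x * y = (x * x) * (x * y) * (y * y) := by rw [hsq2 x, hsq2 y, one_mul, mul_one]
      _ = x * (x * (x * y) * y) * y := by group
      _ = y * x := by
        have hx := hsq2 x
        have hy := hsq2 y
        have e1 : (x * y)⁻¹ = x * y := inv_eq_of_mul_eq_one_right h
        rw [mul_inv_rev, inv_eq_of_mul_eq_one_right hx, inv_eq_of_mul_eq_one_right hy] at e1
        calc x * (x * (x * y) * y) * y = (x * x) * (x * y) * (y * y) := by group
          _ = y * x := by rw [hx, hy, one_mul, mul_one, e1]
  refine ⟨Subgroup.zpowers a ⊔ D, ?_, fun w hw hwQ => ?_⟩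
  · have hne : Subgroup.zpowers a ⊔ D ≠ ⊤ := fun e => hna (comm_of_zpowers_sup hS a e)
    have hlt : D < Subgroup.zpowers a ⊔ D := lt_of_le_of_ne le_sup_right
      fun e => haD (e ▸ le_sup_left (a := Subgroup.zpowers a) (Subgroup.mem_zpowers a))
    have hmul := Subgroup.relIndex_mul_index hlt.le
    rw [hidx] at hmul
    have h1 : D.relIndex (Subgroup.zpowers a ⊔ D) ≠ 1 := fun e => hlt.not_ge
      (Subgroup.relIndex_eq_one.1 e)
    have h2 : (Subgroup.zpowers a ⊔ D).index ≠ 1 := fun e => hne (Subgroup.index_eq_one.1 e)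
    have h3 : (Subgroup.zpowers a ⊔ D).index ∣ 4 := ⟨_, by rw [← hmul, mul_comm]⟩
    have h4 := Nat.le_of_dvd four_pos h3
    interval_cases hi : (Subgroup.zpowers a ⊔ D).index <;> omega
  · have ha2 : a * a ∈ D := by
      by_contra h2
      refine hna (comm_of_zpowers_sup hS a ?_)
      by_contra hne
      have hlt : D < Subgroup.zpowers a ⊔ D := lt_of_le_of_ne le_sup_right
        fun e => haD (e ▸ le_sup_left (a := Subgroup.zpowers a) (Subgroup.mem_zpowers a))
      have horder : orderOf ((a : S) : S ⧸ D) ∣ Nat.card ((Subgroup.zpowers a ⊔ D).map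
          (QuotientGroup.mk' D)) :=
        Subgroup.orderOf_dvd_natCard _ (Subgroup.mem_map_of_mem _
          (le_sup_left (a := Subgroup.zpowers a) (Subgroup.mem_zpowers a)))
      have hidxmap : ((Subgroup.zpowers a ⊔ D).map (QuotientGroup.mk' D)).index =
          (Subgroup.zpowers a ⊔ D).index :=
        Subgroup.index_map_eq _ (QuotientGroup.mk'_surjective D)
          (by rw [QuotientGroup.ker_mk']; exact le_sup_right)
      have hcm := Subgroup.card_mul_index ((Subgroup.zpowers a ⊔ D).map (QuotientGroup.mk' D))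
      rw [hidxmap, ← Subgroup.index_eq_card, hidx] at hcm
      have hi2 : (Subgroup.zpowers a ⊔ D).index ≠ 1 := fun e => hne (Subgroup.index_eq_one.1 e)
      have hi0 : 2 ≤ (Subgroup.zpowers a ⊔ D).index := by
        have := Subgroup.index_ne_zero_of_finite (H := Subgroup.zpowers a ⊔ D)
        omega
      have hle : Nat.card ((Subgroup.zpowers a ⊔ D).map (QuotientGroup.mk' D)) ≤ 2 := by
        have := Nat.mul_le_mul (le_refl (Nat.card ((Subgroup.zpowers a ⊔ D).map
          (QuotientGroup.mk' D)))) hi0
        omega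
      have ho := Nat.le_of_dvd Nat.card_pos horder
      have ho1 : orderOf ((a : S) : S ⧸ D) ≠ 1 := fun e =>
        haD ((QuotientGroup.eq_one_iff a).1 (orderOf_eq_one_iff.1 e))
      have ho2 : orderOf ((a : S) : S ⧸ D) = 2 := by
        have := orderOf_pos ((a : S) : S ⧸ D)
        omega
      apply h2
      rw [← QuotientGroup.eq_one_iff, QuotientGroup.mk_mul, ← pow_two, ← ho2, pow_orderOf_eq_one]
    obtain ⟨y, ⟨k, rfl⟩, d, hd, rfl⟩ := Subgroup.mem_sup_of_normal_right.1 hwQ
    rcases Int.even_or_odd k with ⟨j, hj⟩ | ⟨j, hj⟩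
    · refine hout _ hw (D.mul_mem ?_ hd)
      show a ^ k ∈ D
      rw [hj, show a ^ (j + j) = (a * a) ^ j by rw [← zpow_two_mul_aux a j]]
      exact D.zpow_mem ha2 j
    · have e : a ^ k = a * (a * a) ^ j := by
        rw [hj, show (2 : ℤ) * j + 1 = 1 + (j + j) by ring, zpow_add, zpow_one, zpow_two_mul_aux a j]
      apply haP
      have := hcoset _ hw (d⁻¹ * ((a * a) ^ j)⁻¹) (D.mul_mem (D.inv_mem hd)
        (D.inv_mem (D.zpow_mem ha2 j)))
      rwa [show a ^ k * d * (d⁻¹ * ((a * a) ^ j)⁻¹) = a by rw [e]; group] at this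

end CfsgLib.Char.ConstDegree
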