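import Cfsg.Agent.Lib.Char.ConstDegreeMinusValue.Sums
import Cfsg.Agent.Lib.Char.ConstDegreeMinusValue.TwoGroup
import Cfsg.Agent.Lib.Fusion.Tate
import Cfsg.Agent.Lib.Block.BrauerFeit
import Cfsg.Agent.Lib.Block.Orthogonality
import Cfsg.Agent.Lib.Block.Local

/-!
# Constant degree minus value: the case of an involution
-/

set_option autoImplicit false
set_option linter.unusedSectionVars false

namespace CfsgLib.Char.ConstDegree

open scoped ComplexConjugate
open Representation Module Cfsg

universe u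

variable {G : Type u} [Group G] [Finite G] {u : G}

theorem card_centralizer_conj {x : G} (h : IsConj u x) :
    Nat.card (Subgroup.centralizer ({x} : Set G)) =
      Nat.card (Subgroup.centralizer ({u} : Set G)) := by
  have hcl : Nat.card {y : G // IsConj u y} = Nat.card {y : G // IsConj x y} :=
    Nat.card_congr (Equiv.subtypeEquivRight fun y => ⟨fun e => h.symm.trans e, fun e => h.trans e⟩)
  rw [card_isConj, card_isConj] at hcl
  have h1 := (Subgroup.centralizer ({x} : Set G)).card_mul_index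
  have h2 := (Subgroup.centralizer ({u} : Set G)).card_mul_index
  rw [← hcl] at h1
  exact Nat.eq_of_mul_eq_mul_right
    (Nat.pos_of_ne_zero Subgroup.index_ne_zero_of_finite) (h1.trans h2.symm)

theorem two_pow_dvd_four {k n : ℕ} (h : 2 ^ k ∣ 4 + 8 * n) : 2 ^ k ∣ 4 := by
  rcases Nat.lt_or_ge k 3 with hk | hk
  · exact pow_dvd_pow 2 (show k ≤ 2 by omega)
  · have h8 : 8 ∣ 4 + 8 * n := (pow_dvd_pow 2 hk).trans h
    omega

/-- The 2-part of the order is four. -/
theorem factorization_two (hyp : FourHyp G u) (hu : u ≠ 1) (hu2 : u * u = 1) :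
    (Nat.card G).factorization 2 = 2 := by
  classical
  haveI : Fact (Nat.Prime 2) := ⟨Nat.prime_two⟩
  obtain ⟨-, -, hc⟩ := counts hyp hu
  set C := Subgroup.centralizer ({u} : Set G) with hC
  let u' : C := ⟨u, Subgroup.mem_centralizer_singleton_iff.2 rfl⟩
  have hzp : IsPGroup 2 (Subgroup.zpowers u') := by
    refine IsPGroup.of_card (n := 1) ?_
    rw [Nat.card_zpowers, pow_one]
    exact orderOf_eq_prime (Subtype.ext (by simpa [pow_two, u'] using hu2))
      (fun e => hu (congrArg Subtype.val e))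
  obtain ⟨P₀, hP₀⟩ := hzp.exists_le_sylow
  have hP₀c : Nat.card (P₀ : Subgroup C) = 4 := by
    rw [P₀.card_eq_multiplicity, hc]
    have : (4 + 8 * cnt u 6 2).factorization 2 = 2 := by
      rw [show 4 + 8 * cnt u 6 2 = 2 ^ 2 * (1 + 2 * cnt u 6 2) by ring,
        Nat.factorization_mul (by norm_num) (by omega), Finsupp.add_apply,
        Nat.factorization_eq_zero_of_not_dvd (by omega : ¬ 2 ∣ 1 + 2 * cnt u 6 2),
        Nat.factorization_pow, Finsupp.smul_apply, Nat.prime_two.factorization_self]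
      rfl
    rw [this]; rfl
  obtain ⟨S, hS⟩ := (P₀.isPGroup'.map C.subtype).exists_le_sylow
  have huS : u ∈ (S : Subgroup G) :=
    hS ⟨u', hP₀ (Subgroup.mem_zpowers u'), rfl⟩
  have hS4 : Nat.card (S : Subgroup G) = 4 := by
    have hge : 4 ≤ Nat.card (S : Subgroup G) := by
      rw [← hP₀c, ← Subgroup.card_map_of_injective C.subtype_injective]
      exact Subgroup.card_le_of_le hS
    refine le_antisymm (not_lt.1 fun hbig => ?_) hge
    let P : ↥(S : Subgroup G) → Prop := fun w => IsConj u (w : G)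
    obtain ⟨Q, hQ, hav⟩ := exists_avoiding S.isPGroup' P (u := ⟨u, huS⟩) (IsConj.refl u) hbig
      (fun w hw => by
        obtain ⟨g, hg⟩ := isConj_iff.1 hw
        refine Subtype.ext ?_
        rw [Subgroup.coe_mul, ← hg, Subgroup.coe_one]
        calc g * u * g⁻¹ * (g * u * g⁻¹) = g * (u * u) * g⁻¹ := by group
          _ = 1 := by rw [hu2, mul_one, mul_inv_cancel])
      (fun w hw => by
        have hle : (Subgroup.centralizer ({w} : Set (S : Subgroup G))).map (S : Subgroup G).subtype ≤
            Subgroup.centralizer ({(w : G)} : Set G) := by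
          rintro _ ⟨y, hy, rfl⟩
          exact Subgroup.mem_centralizer_singleton_iff.2
            (congrArg Subtype.val (Subgroup.mem_centralizer_singleton_iff.1 hy))
        have hd := Subgroup.card_dvd_of_le hle
        rw [card_centralizer_conj hw, hc,
          Subgroup.card_map_of_injective (S : Subgroup G).subtype_injective] at hd
        obtain ⟨k, hk⟩ := (S.isPGroup'.to_subgroup
          (Subgroup.centralizer ({w} : Set (S : Subgroup G)))).exists_card_eq
        rw [hk] at hd ⊢
        exact Nat.le_of_dvd four_pos (two_pow_dvd_four hd))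
      (fun w x hw hwx => hw.trans (MonoidHom.map_isConj (S : Subgroup G).subtype hwx))
    obtain ⟨M, hM, hMi, -⟩ := CfsgLib.Fusion.thompson_transfer S
      (Q := Q.map (S : Subgroup G).subtype) (Subgroup.map_subtype_le Q)
      (by rw [Subgroup.relIndex, Subgroup.subgroupOf,
        Subgroup.comap_map_eq_self_of_injective (S : Subgroup G).subtype_injective, hQ])
      (u := u) (by rw [pow_two, hu2]) (fun g hg => by
        obtain ⟨q, hq, hqe⟩ := hg
        exact hav q (isConj_iff.2 ⟨g, hqe.symm⟩) hq)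
    haveI := hM
    have hcomm : commutator G ≤ M := by
      haveI : IsCyclic (G ⧸ M) :=
        isCyclic_of_prime_card (p := 2) (by rw [← Subgroup.index_eq_card, hMi])
      letI : CommGroup (G ⧸ M) := IsCyclic.commGroup
      exact (QuotientGroup.ker_mk' M) ▸ Abelianization.commutator_subset_ker (QuotientGroup.mk' M)
    rw [commutator_eq_top hyp, top_le_iff] at hcomm
    rw [hcomm, Subgroup.index_top] at hMi
    omega
  have := S.card_eq_multiplicity
  rw [hS4, show (4 : ℕ) = 2 ^ 2 from rfl] at this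
  exact (Nat.pow_right_injective le_rfl this).symm

/-- There is no six. -/
theorem cnt_six (hyp : FourHyp G u) (hu : u ≠ 1) (hu2 : u * u = 1) : cnt u 6 2 = 0 := by
  classical
  by_contra h6
  obtain ⟨⟨θ, hθ1, hθu⟩⟩ := (Nat.card_pos_iff.1 (Nat.pos_of_ne_zero h6)).1
  have hv := factorization_two hyp hu hu2
  obtain ⟨M, hM⟩ := CfsgLib.Block.exists_pModular (p := 2) Nat.prime_two
  haveI := hM.2.1
  letI := Fintype.ofFinite G
  haveI := Fintype.ofFinite (IrrCharacter G)
  haveI := Fintype.ofFinite (ConjClasses G)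
  set B := blockOf M (θ : G → ℂ) with hBdef
  have hB : IsPBlock M B := CfsgLib.Block.isPBlock_blockOf θ
  have hθB : θ ∈ B := CfsgLib.Block.self_mem_blockOf θ
  have horth := CfsgLib.Block.blockUnion_orthogonal_regular_singular hM
    (CfsgLib.Block.IsBlockUnion.of_isPBlock hB) (g := 1) (h := u) (by simp)
    (by rw [orderOf_eq_prime (by rw [pow_two, hu2]) hu])
  rw [finsum_mem_eq_toFinset_sum] at horth
  obtain ⟨χ, hχB, hχ⟩ : ∃ χ ∈ B, IsThree u χ := by
    by_contra hno
    push Not at hno
    have h := congrArg Complex.re horth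
    rw [Complex.re_sum, Complex.zero_re] at h
    have hpos : ∀ χ ∈ B.toFinset, 0 ≤ ((χ : G → ℂ) 1 * conj ((χ : G → ℂ) u)).re := fun χ hχ => by
      obtain ⟨d, -, hd⟩ := isIrrCharacter_degree χ.2
      rw [hd, Complex.mul_re, Complex.natCast_re, Complex.natCast_im, zero_mul, sub_zero,
        Complex.conj_re]
      exact mul_nonneg (Nat.cast_nonneg d)
        (not_lt.1 fun hlt => hno χ (Set.mem_toFinset.1 hχ) (isThree_of_re_neg hyp hlt))
    have := Finset.single_le_sum hpos (Set.mem_toFinset.2 hθB)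
    rw [h, hθ1, hθu] at this
    simp at this
    linarith
  have hval : ∀ (ψ : IrrCharacter G) (d : ℕ), (ψ : G → ℂ) 1 = (d : ℂ) →
      charDegree (ψ : G → ℂ) = d := fun ψ d h => by simp [charDegree, h]
  have hθd := hval θ 6 (by rw [hθ1]; norm_num)
  have hχd := hval χ 3 (by rw [hχ.1]; norm_num)
  have hmin : CfsgLib.Block.minDeg 2 B = 0 := by
    have h := CfsgLib.Block.minDeg_le (p := 2) hχB
    unfold CfsgLib.Block.degVal at h
    rw [hχd, Nat.factorization_eq_zero_of_not_dvd (by norm_num : ¬ 2 ∣ 3)] at h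
    omega
  have hθf : (6 : ℕ).factorization 2 = 1 := by
    rw [show (6 : ℕ) = 2 * 3 by norm_num, Nat.factorization_mul (by norm_num) (by norm_num),
      Finsupp.add_apply, Nat.prime_two.factorization_self,
      Nat.factorization_eq_zero_of_not_dvd (by norm_num : ¬ 2 ∣ 3)]
  have hh : blockHeight 2 B (θ : G → ℂ) = 1 := by
    rw [CfsgLib.Block.blockHeight_eq, hmin, CfsgLib.Block.degVal, hθd, hθf]
  have hle := CfsgLib.Block.blockHeight_add_two_le_defect hM hB hθB (by omega)
  have hdef : blockDefect 2 B ≤ 2 := by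
    unfold blockDefect
    omega
  omega

/-- The order is sixty. -/
theorem small (hyp : FourHyp G u) (hu : u ≠ 1) (hu2 : u * u = 1) :
    Nat.card G = 60 ∧ Nat.card (Subgroup.centralizer ({u} : Set G)) = 4 ∧
      ∀ x ∈ Subgroup.centralizer ({u} : Set G), x ≠ 1 → IsConj u x := by
  classical
  obtain ⟨-, -, hc⟩ := counts hyp hu
  rw [cnt_six hyp hu hu2, Nat.mul_zero, Nat.add_zero] at hc
  have hN := classConst_eq hyp hu
  rw [hc] at hN
  set C := Subgroup.centralizer ({u} : Set G) with hC
  have huC : u ∈ C := Subgroup.mem_centralizer_singleton_iff.2 rfl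
  have hsq : ∀ x : G, IsConj u x → x * x = 1 := fun x hx => by
    obtain ⟨g, rfl⟩ := isConj_iff.1 hx
    calc g * u * g⁻¹ * (g * u * g⁻¹) = g * (u * u) * g⁻¹ := by group
      _ = 1 := by rw [hu2, mul_one, mul_inv_cancel]
  have hne1 : ∀ x : G, IsConj u x → x ≠ 1 := fun x hx e => hu (isConj_one_left.1 (e ▸ hx))
  let f : {p : G × G // IsConj u p.1 ∧ IsConj u p.2 ∧ p.1 * p.2 = u} →
      {x : C // (x : G) ≠ 1 ∧ (x : G) ≠ u} := fun p =>
    ⟨⟨p.1.1, Subgroup.mem_centralizer_singleton_iff.2 (by
      obtain ⟨ha, hb, hab⟩ := p.2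
      have h2 := hsq _ hb
      rw [eq_inv_mul_of_mul_eq hab] at h2
      have ha' : p.1.1⁻¹ = p.1.1 := inv_eq_of_mul_eq_one_right (hsq _ ha)
      rw [ha'] at h2
      have h3 : (p.1.1 * u)⁻¹ = p.1.1 * u := inv_eq_of_mul_eq_one_right h2
      rw [mul_inv_rev, ha', inv_eq_of_mul_eq_one_right hu2] at h3
      exact h3.symm)⟩, hne1 _ p.2.1, fun e => hne1 _ p.2.2.1 (by
        have hab := p.2.2.2
        change p.1.1 = u at e
        rw [e] at hab
        simpa using hab)⟩
  have hf : Function.Injective f := fun p q e => by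
    have e1 : p.1.1 = q.1.1 := congrArg (fun x : {x : C // (x : G) ≠ 1 ∧ (x : G) ≠ u} => (x.1 : G)) e
    refine Subtype.ext (Prod.ext e1 ?_)
    have h1 := p.2.2.2
    rw [e1] at h1
    exact mul_left_cancel (h1.trans q.2.2.2.symm)
  have hle := Nat.card_le_card_of_injective f hf
  have hcard2 : Nat.card {x : C // (x : G) ≠ 1 ∧ (x : G) ≠ u} = 2 := by
    letI := Fintype.ofFinite C
    rw [Nat.card_eq_fintype_card, Fintype.card_subtype]
    rw [show Finset.univ.filter (fun x : C => (x : G) ≠ 1 ∧ (x : G) ≠ u) =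
      (Finset.univ.erase (1 : C)).erase ⟨u, huC⟩ by
        ext x
        simp only [Finset.mem_filter, Finset.mem_univ, true_and, Finset.mem_erase, and_true, ne_eq]
        exact ⟨fun h => ⟨fun e => h.2 (congrArg Subtype.val e), fun e => h.1 (congrArg Subtype.val e)⟩,
          fun h => ⟨fun e => h.2 (Subtype.ext e), fun e => h.1 (Subtype.ext e)⟩⟩]
    rw [Finset.card_erase_of_mem (Finset.mem_erase.2 ⟨fun e => hu (congrArg Subtype.val e),
      Finset.mem_univ _⟩), Finset.card_erase_of_mem (Finset.mem_univ _), Finset.card_univ,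
      ← Nat.card_eq_fintype_card, hc]
  rw [hcard2] at hle
  have hh : 0 < Nat.card {x : G // IsConj u x} :=
    Nat.card_pos_iff.2 ⟨⟨⟨u, IsConj.refl u⟩⟩, inferInstance⟩
  change classConst u u u ≤ 2 at hle
  have hG : Nat.card {x : G // IsConj u x} * 4 = Nat.card G := by
    rw [card_isConj, ← hc, Subgroup.index_mul_card]
  have hcc : classConst u u u = 2 := by omega
  refine ⟨by omega, hc, fun x hx hx1 => ?_⟩
  by_cases hxu : x = u
  · rw [hxu]
  obtain ⟨p, hp⟩ := ((Nat.bijective_iff_injective_and_card f).2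
    ⟨hf, hcc.trans hcard2.symm⟩).2 ⟨⟨x, hx⟩, hx1, hxu⟩
  have e : p.1.1 = x :=
    congrArg (fun y : {x : C // (x : G) ≠ 1 ∧ (x : G) ≠ u} => (y.1 : G)) hp
  exact e ▸ p.2.1

end CfsgLib.Char.ConstDegree
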