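import Cfsg.Agent.Lib.Char.ConstDegreeMinusValue.Counts

/-!
# Constant degree minus value: orthogonality and the structure constant
-/

set_option autoImplicit false
set_option linter.unusedSectionVars false

namespace CfsgLib.Char.ConstDegree

open scoped ComplexConjugate
open Representation Module Cfsg

universe u

variable {G : Type u} [Group G] [Finite G] {u : G}

open Classical in
/-- The number of irreducible characters with given degree and value at `u`. -/
noncomputable def cnt (u : G) (d f : ℂ) : ℕ :=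
  Nat.card {χ : IrrCharacter G // (χ : G → ℂ) 1 = d ∧ (χ : G → ℂ) u = f}

theorem sum_four [Fintype (IrrCharacter G)] (hyp : FourHyp G u) (hu : u ≠ 1)
    (g : ℂ → ℂ → ℂ) (h0 : ∀ d, g d 0 = 0) :
    ∑ χ : IrrCharacter G, g ((χ : G → ℂ) 1) ((χ : G → ℂ) u) =
      g 1 1 + (cnt u 3 (-1) : ℂ) * g 3 (-1) + (cnt u 5 1 : ℂ) * g 5 1 + (cnt u 6 2 : ℂ) * g 6 2 := by
  classical
  have hc : ∀ d f : ℂ, (∑ χ : IrrCharacter G,
      if (χ : G → ℂ) 1 = d ∧ (χ : G → ℂ) u = f then g d f else 0) = (cnt u d f : ℂ) * g d f := by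
    intro d f
    rw [← Finset.sum_filter, Finset.sum_const, nsmul_eq_mul, cnt, Nat.card_eq_fintype_card,
      Fintype.card_subtype]
  have h1 : (∑ χ : IrrCharacter G,
      if (χ : G → ℂ) 1 = 1 ∧ (χ : G → ℂ) u = 1 then g 1 1 else 0) = g 1 1 := by
    rw [Finset.sum_eq_single (CfsgLib.Block.oneChar G)]
    · rw [if_pos ⟨rfl, rfl⟩]
    · intro χ _ hne
      rw [if_neg]
      exact fun h => hne (Subtype.ext (eq_one_of_degree_one hyp χ h.1))
    · exact fun h => absurd (Finset.mem_univ _) h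
  rw [← h1, ← hc 3 (-1), ← hc 5 1, ← hc 6 2, ← Finset.sum_add_distrib, ← Finset.sum_add_distrib,
    ← Finset.sum_add_distrib]
  refine Finset.sum_congr rfl fun χ _ => ?_
  by_cases hχ : (χ : G → ℂ) = fun _ => (1 : ℂ)
  · rw [hχ]; norm_num
  by_cases hv : (χ : G → ℂ) u = 0
  · rw [hv, h0]; norm_num
  rcases degree_cases hyp hu hχ hv with ⟨a, b⟩ | ⟨a, b⟩ | ⟨a, b⟩ <;> rw [a, b] <;> norm_num

theorem classConst_sum (hyp : FourHyp G u) (hu : u ≠ 1) :
    (classConst u u u : ℂ) = (Nat.card {x : G // IsConj u x} : ℂ) *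
      (Nat.card {x : G // IsConj u x} : ℂ) / (Nat.card G : ℂ) *
      (1 - (cnt u 3 (-1) : ℂ) / 3 + (cnt u 5 1 : ℂ) / 5 + (cnt u 6 2 : ℂ) * 8 / 6) := by
  classical
  haveI := Fintype.ofFinite (IrrCharacter G)
  rw [classConst_formula u u u, finsum_eq_sum_of_fintype,
    sum_four hyp hu (fun d f => f * f * conj f / d) (fun d => by simp)]
  congr 1
  simp only [map_neg, map_one, map_ofNat]
  ring

/-- One five; the number of threes and the centralizer order in terms of the sixes. -/
theorem counts (hyp : FourHyp G u) (hu : u ≠ 1) :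
    cnt u 5 1 = 1 ∧ cnt u 3 (-1) = 2 + 4 * cnt u 6 2 ∧
      Nat.card (Subgroup.centralizer ({u} : Set G)) = 4 + 8 * cnt u 6 2 := by
  classical
  haveI := Fintype.ofFinite (IrrCharacter G)
  have h1 := sum_four hyp hu (fun d f => d * f) (fun d => by simp)
  rw [sum_degree_mul_val hu] at h1
  have hc := sum_irr_mul_conj (G := G) u u
  rw [if_pos (IsConj.refl u), sum_irr_congr hyp hu] at hc
  have e1 : 3 * cnt u 3 (-1) = 1 + 5 * cnt u 5 1 + 12 * cnt u 6 2 := by
    have : ((3 * cnt u 3 (-1) : ℕ) : ℂ) = ((1 + 5 * cnt u 5 1 + 12 * cnt u 6 2 : ℕ) : ℂ) := by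
      push_cast; linear_combination h1
    exact_mod_cast this
  have ec : Nat.card (Subgroup.centralizer ({u} : Set G)) =
      1 + cnt u 3 (-1) + cnt u 5 1 + 4 * cnt u 6 2 := by
    have : ((Nat.card (Subgroup.centralizer ({u} : Set G)) : ℕ) : ℂ) =
      ((1 + cnt u 3 (-1) + cnt u 5 1 + 4 * cnt u 6 2 : ℕ) : ℂ) := by
      push_cast; linear_combination -hc
    exact_mod_cast this
  have h5 : cnt u 5 1 ≤ 2 := by
    have hN := classConst_sum hyp hu
    set h := Nat.card {x : G // IsConj u x} with hh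
    have hpos : 0 < h := Nat.card_pos_iff.2 ⟨⟨⟨u, IsConj.refl u⟩⟩, inferInstance⟩
    have e1' : (3 : ℂ) * (cnt u 3 (-1) : ℂ) = 1 + 5 * cnt u 5 1 + 12 * cnt u 6 2 := by
      exact_mod_cast e1
    have hG : (Nat.card G : ℂ) ≠ 0 := by exact_mod_cast (Nat.card_pos (α := G)).ne'
    have : ((45 * classConst u u u * Nat.card G + 16 * (h * h) * cnt u 5 1 : ℕ) : ℂ) =
        ((40 * (h * h) : ℕ) : ℂ) := by
      push_cast
      rw [hN]
      field_simp
      linear_combination -450 * (h : ℂ) ^ 2 * e1'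
    have hnat : 45 * classConst u u u * Nat.card G + 16 * (h * h) * cnt u 5 1 = 40 * (h * h) := by
      exact_mod_cast this
    by_contra hlt
    have : 16 * (h * h) * 3 ≤ 16 * (h * h) * cnt u 5 1 := Nat.mul_le_mul le_rfl (by omega)
    have : 0 < h * h := Nat.mul_pos hpos hpos
    omega
  omega
where
  sum_irr_congr {G : Type u} [Group G] [Finite G] {u : G} [Fintype (IrrCharacter G)]
      (hyp : FourHyp G u) (hu : u ≠ 1) :
      ∑ χ : IrrCharacter G, (χ : G → ℂ) u * conj ((χ : G → ℂ) u) =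
        1 + (cnt u 3 (-1) : ℂ) + (cnt u 5 1 : ℂ) + 4 * (cnt u 6 2 : ℂ) := by
    rw [sum_four hyp hu (fun _ f => f * conj f) (fun _ => by simp)]
    simp only [map_neg, map_one, map_ofNat]
    ring

/-- The structure constant of the class of `u`. -/
theorem classConst_eq (hyp : FourHyp G u) (hu : u ≠ 1) :
    15 * Nat.card (Subgroup.centralizer ({u} : Set G)) * classConst u u u =
      8 * Nat.card {x : G // IsConj u x} := by
  obtain ⟨h5, h3, hc⟩ := counts hyp hu
  have hN := classConst_sum hyp hu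
  rw [h5, h3] at hN
  have hG : Nat.card {x : G // IsConj u x} * Nat.card (Subgroup.centralizer ({u} : Set G)) =
      Nat.card G := by
    rw [card_isConj, Subgroup.index_mul_card]
  have hh : (Nat.card {x : G // IsConj u x} : ℂ) ≠ 0 := by
    have : 0 < Nat.card {x : G // IsConj u x} :=
      Nat.card_pos_iff.2 ⟨⟨⟨u, IsConj.refl u⟩⟩, inferInstance⟩
    exact_mod_cast this.ne'
  have hcc : (Nat.card (Subgroup.centralizer ({u} : Set G)) : ℂ) ≠ 0 := by
    exact_mod_cast (Nat.card_pos (α := Subgroup.centralizer ({u} : Set G))).ne'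
  rw [← hG] at hN
  push_cast at hN
  have : ((15 * Nat.card (Subgroup.centralizer ({u} : Set G)) * classConst u u u : ℕ) : ℂ) =
      ((8 * Nat.card {x : G // IsConj u x} : ℕ) : ℂ) := by
    push_cast
    rw [hN]
    field_simp
    ring
  exact_mod_cast this

end CfsgLib.Char.ConstDegree
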